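import Mathlib.RingTheory.MvPowerSeries.Basic
import Mathlib.RingTheory.PowerSeries.Basic
import Mathlib.Data.Finsupp.Antidiagonal
import Mathlib.RingTheory.Ideal.Maps
import Mathlib.RingTheory.Ideal.BigOperators

/-!
The quotient of power series in several variables by the mixed quadratic monomials.
-/

set_option autoImplicit false

universe u

open Finsupp Finset

noncomputable section

namespace Groth.Agent.Delta12

variable (k : Type u) [Field k] (n : ℕ)

/-- the mixed monomials -/
def mixed : Set (MvPowerSeries (Fin n) k) :=
  {f | ∃ i j : Fin n, i ≠ j ∧ f = MvPowerSeries.X i * MvPowerSeries.X j}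

/-- restriction to the coordinate axes -/
def axes : MvPowerSeries (Fin n) k →+* (Fin n → PowerSeries k) where
  toFun f i := PowerSeries.mk fun m => MvPowerSeries.coeff (single i m) f
  map_one' := by
    classical
    funext i; ext m
    simp [MvPowerSeries.coeff_one, PowerSeries.coeff_one]
  map_mul' f g := by
    classical
    funext i; ext m
    rw [PowerSeries.coeff_mk, Pi.mul_apply, PowerSeries.coeff_mul, MvPowerSeries.coeff_mul,
      Finsupp.antidiagonal_single, Finset.sum_map]
    simp
  map_zero' := by funext i; ext m; simp
  map_add' f g := by funext i; ext m; simp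

variable {k n}

theorem coeff_axes (f : MvPowerSeries (Fin n) k) (i : Fin n) (m : ℕ) :
    PowerSeries.coeff m (axes k n f i) = MvPowerSeries.coeff (single i m) f := by
  simp [axes]

theorem axes_C (c : k) (i : Fin n) : axes k n (MvPowerSeries.C c) i = PowerSeries.C c := by
  classical
  ext m
  simp [coeff_axes, MvPowerSeries.coeff_C, PowerSeries.coeff_C]

theorem range_axes :
    Set.range (axes k n) = {f | ∀ i j, PowerSeries.constantCoeff (f i) = PowerSeries.constantCoeff (f j)} := by
  classical
  ext f
  constructor
  · rintro ⟨g, rfl⟩ i j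
    simp only [← PowerSeries.coeff_zero_eq_constantCoeff_apply, coeff_axes, single_zero]
  · intro hf
    let g : MvPowerSeries (Fin n) k := fun e =>
      if h : ∃ i, single i (e i) = e then PowerSeries.coeff (e h.choose) (f h.choose) else 0
    refine ⟨g, funext fun i => PowerSeries.ext fun m => ?_⟩
    rw [coeff_axes]
    show g (single i m) = _
    have h : ∃ j, single j ((single i m : Fin n →₀ ℕ) j) = single i m := ⟨i, by simp⟩
    simp only [g, dif_pos h]
    generalize hj : h.choose = j
    have hjs := h.choose_spec
    rw [hj] at hjs
    rcases Finsupp.single_eq_single_iff _ _ _ _ |>.1 hjs with ⟨rfl, -⟩ | ⟨hz, rfl⟩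
    · simp
    · rw [hz, PowerSeries.coeff_zero_eq_constantCoeff_apply, PowerSeries.coeff_zero_eq_constantCoeff_apply]
      exact hf j i

theorem ker_axes [NeZero n] : RingHom.ker (axes k n) = Ideal.span (mixed k n) := by
  classical
  refine le_antisymm (fun f hf => ?_) (Ideal.span_le.2 ?_)
  swap
  · rintro _ ⟨i, j, hij, rfl⟩
    funext l
    ext m
    rw [coeff_axes, MvPowerSeries.X_def, MvPowerSeries.X_def, MvPowerSeries.monomial_mul_monomial,
      MvPowerSeries.coeff_monomial, if_neg]
    · simp
    intro h
    have h1 := DFunLike.congr_fun h i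
    have h2 := DFunLike.congr_fun h j
    by_cases hl : l = i
    · subst hl; simp [hij, Ne.symm hij] at h2
    · simp [hij, Ne.symm hij, Ne.symm hl, hl] at h1
  let P : Type := {p : Fin n × Fin n // p.1 ≠ p.2}
  have hpick : ∀ e : Fin n →₀ ℕ, MvPowerSeries.coeff e f ≠ 0 →
      ∃ p : P, single p.1.1 1 + single p.1.2 1 ≤ e := by
    intro e he
    by_contra h
    push Not at h
    have hsub : ∀ i j, e i ≠ 0 → e j ≠ 0 → i = j := fun i j hi hj => by
      by_contra hij
      refine h ⟨(i, j), hij⟩ fun l => ?_
      simp only [Finsupp.add_apply]
      rcases eq_or_ne l i with rfl | hli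
      · simp [Ne.symm hij]; omega
      · rcases eq_or_ne l j with rfl | hlj
        · simp [hli]; omega
        · simp [hli, hlj]
    by_cases h0 : e = 0
    · exact he (by rw [h0, ← single_zero (0 : Fin n), ← coeff_axes, RingHom.mem_ker.1 hf]; simp)
    · obtain ⟨i, hi⟩ := Finsupp.ne_iff.1 h0
      have : single i (e i) = e := Finsupp.ext fun l => by
        rcases eq_or_ne i l with rfl | hil
        · simp
        · simp [hil, Finsupp.single_apply]
          by_contra hl
          exact hil (hsub i l hi (Ne.symm hl))
      exact he (by rw [← this, ← coeff_axes, RingHom.mem_ker.1 hf]; simp)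
  haveI : Fintype P := Subtype.fintype _
  let pick : (Fin n →₀ ℕ) → Option P := fun e =>
    if h : MvPowerSeries.coeff e f ≠ 0 then some (hpick e h).choose else none
  let g : P → MvPowerSeries (Fin n) k := fun p e =>
    if pick (e + (single p.1.1 1 + single p.1.2 1)) = some p then
      MvPowerSeries.coeff (e + (single p.1.1 1 + single p.1.2 1)) f else 0
  have hfg : f = ∑ p : P, (MvPowerSeries.X p.1.1 * MvPowerSeries.X p.1.2) * g p := by
    ext e
    rw [map_sum]
    simp only [MvPowerSeries.X_def, MvPowerSeries.monomial_mul_monomial, mul_one,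
      MvPowerSeries.coeff_monomial_mul, one_mul]
    have hterm : ∀ p : P, (if single p.1.1 1 + single p.1.2 1 ≤ e then
        MvPowerSeries.coeff (e - (single p.1.1 1 + single p.1.2 1)) (g p) else 0) =
        if pick e = some p then MvPowerSeries.coeff e f else 0 := by
      intro p
      by_cases hle : single p.1.1 1 + single p.1.2 1 ≤ e
      · rw [if_pos hle]
        show g p _ = _
        simp only [g, tsub_add_cancel_of_le hle]
      · rw [if_neg hle, if_neg]
        intro h
        by_cases he : MvPowerSeries.coeff e f ≠ 0
        · simp only [pick, dif_pos he, Option.some.injEq] at h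
          exact hle (h ▸ (hpick e he).choose_spec)
        · simp [pick, he] at h
    rw [Finset.sum_congr rfl fun p _ => hterm p]
    by_cases he : MvPowerSeries.coeff e f ≠ 0
    · have : pick e = some (hpick e he).choose := dif_pos he
      rw [this]; simp only [Option.some.injEq]; rw [Finset.sum_ite_eq]; simp
    · push Not at he
      simp [he]
  rw [hfg]
  exact Ideal.sum_mem _ fun p _ => Ideal.mul_mem_right _ _ (Ideal.subset_span ⟨_, _, p.2, rfl⟩)

end Groth.Agent.Delta12
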