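import Mathlib.RingTheory.Ideal.Cotangent
import Mathlib.RingTheory.PowerSeries.Basic
import Mathlib.LinearAlgebra.Dimension.Constructions

/-!
The tangent space of a local algebra embedded in a product of power series rings as a multicross.
-/

set_option autoImplicit false
set_option linter.style.haveILetI false
set_option maxHeartbeats 800000

universe u

open IsLocalRing

noncomputable section

namespace Groth.Agent.Delta12

/-- the tangent space of a multicross has dimension the number of its branches -/
theorem cotangent_finrank {k : Type u} [Field k] {A : Type u} [CommRing A] [IsLocalRing A]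
    [Algebra k A] {n : ℕ} (hres : Function.Bijective (algebraMap k (ResidueField A)))
    (Φ : A →ₐ[k] (Fin n → PowerSeries k))
    (hord : ∀ (x : A) (N : ℕ), x ∈ maximalIdeal A ^ N ↔ ∀ i, (PowerSeries.X : PowerSeries k) ^ N ∣ Φ x i)
    (happ : ∀ f : Fin n → PowerSeries k,
      (∀ i j, PowerSeries.constantCoeff (f i) = PowerSeries.constantCoeff (f j)) →
      ∀ N, ∃ x : A, ∀ i, (PowerSeries.X : PowerSeries k) ^ N ∣ Φ x i - f i) :
    Module.finrank (ResidueField A) (CotangentSpace A) = n := by
  have hzero : ∀ x : A, x ∈ maximalIdeal A → ∀ i, PowerSeries.constantCoeff (Φ x i) = 0 := fun x hx i => by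
    have h := (hord x 1).1 (by rwa [pow_one]) i
    rwa [pow_one, PowerSeries.X_dvd_iff] at h
  have hconst : ∀ (a : A) (i : Fin n),
      algebraMap k (ResidueField A) (PowerSeries.constantCoeff (Φ a i)) = residue A a := fun a i => by
    obtain ⟨t, ht⟩ := hres.2 (residue A a)
    have h1 : a - algebraMap k A t ∈ maximalIdeal A := by
      rw [← residue_eq_zero_iff, map_sub, ← ht]
      exact sub_self _
    have h2 := hzero _ h1 i
    rw [map_sub, AlgHom.commutes, Pi.sub_apply, map_sub, sub_eq_zero] at h2
    rw [h2]
    simpa [PowerSeries.algebraMap_apply] using ht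
  let g : maximalIdeal A →ₗ[A] (Fin n → ResidueField A) :=
    { toFun := fun x i => algebraMap k (ResidueField A) (PowerSeries.coeff 1 (Φ x i))
      map_add' := fun x y => funext fun i => by simp
      map_smul' := fun a x => funext fun i => by
        show algebraMap k (ResidueField A) (PowerSeries.coeff 1 (Φ (a * ↑x) i)) =
          a • algebraMap k (ResidueField A) (PowerSeries.coeff 1 (Φ ↑x i))
        rw [map_mul, Pi.mul_apply, PowerSeries.coeff_one_mul, hzero x x.2, mul_zero, zero_add, map_mul,
          hconst, Algebra.smul_def, ResidueField.algebraMap_eq, mul_comm] }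
  have hker : LinearMap.ker g = maximalIdeal A • (⊤ : Submodule A (maximalIdeal A)) := by
    ext x
    rw [Submodule.mem_smul_top_iff, smul_eq_mul, ← pow_two, LinearMap.mem_ker, funext_iff, hord]
    refine forall_congr' fun i => ?_
    show algebraMap k (ResidueField A) (PowerSeries.coeff 1 (Φ ↑x i)) = 0 ↔ _
    rw [map_eq_zero_iff _ hres.1, PowerSeries.X_pow_dvd_iff]
    refine ⟨fun h m hm => ?_, fun h => h 1 one_lt_two⟩
    interval_cases m
    · rw [PowerSeries.coeff_zero_eq_constantCoeff_apply]; exact hzero x x.2 i
    · exact h
  have hg : Function.Surjective g := fun v => by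
    choose c hc using fun i => hres.2 (v i)
    obtain ⟨x, hx⟩ := happ (fun i => PowerSeries.C (c i) * PowerSeries.X) (fun i j => by simp) 2
    have hxm : x ∈ maximalIdeal A := by
      rw [← pow_one (maximalIdeal A), hord]
      intro i
      have h := (pow_dvd_pow PowerSeries.X one_le_two).trans (hx i)
      rw [pow_one] at h ⊢
      simpa using dvd_add h (dvd_mul_left PowerSeries.X (PowerSeries.C (c i)))
    refine ⟨⟨x, hxm⟩, funext fun i => ?_⟩
    show algebraMap k (ResidueField A) (PowerSeries.coeff 1 (Φ x i)) = v i
    have h := PowerSeries.X_pow_dvd_iff.1 (hx i) 1 one_lt_two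
    rw [map_sub, sub_eq_zero] at h
    rw [h, ← hc i]
    simp
  let e : CotangentSpace A ≃ₗ[A] (Fin n → ResidueField A) :=
    (Submodule.quotEquivOfEq _ _ hker.symm).trans (g.quotKerEquivOfSurjective hg)
  rw [(LinearEquiv.extendScalarsOfSurjective (residue_surjective (R := A)) e).finrank_eq, Module.finrank_fin_fun]

end Groth.Agent.Delta12
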