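import Groth.Agent.Cohen12.Completion
import Mathlib.RingTheory.PowerSeries.Basic
import Mathlib.RingTheory.Filtration

/-!
The completion of a local algebra embedded in power series compatibly with the adic filtration.
-/

set_option autoImplicit false
set_option linter.style.haveILetI false
set_option maxHeartbeats 1600000

universe u

open IsLocalRing

noncomputable section

namespace Groth.Agent.Delta12

/-- **The completion seen inside a product of power series rings.** -/
theorem exists_completion_map {k : Type u} [Field k] {A : Type u} [CommRing A] [IsLocalRing A] [IsNoetherianRing A]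
    [Algebra k A] {n : ℕ} (Φ : A →ₐ[k] (Fin n → PowerSeries k))
    (hconst : ∀ (x : A) (i j : Fin n), PowerSeries.constantCoeff (Φ x i) = PowerSeries.constantCoeff (Φ x j))
    (hord : ∀ (x : A) (N : ℕ), x ∈ maximalIdeal A ^ N ↔ ∀ i, (PowerSeries.X : PowerSeries k) ^ N ∣ Φ x i)
    (happ : ∀ f : Fin n → PowerSeries k,
      (∀ i j, PowerSeries.constantCoeff (f i) = PowerSeries.constantCoeff (f j)) →
      ∀ N, ∃ x : A, ∀ i, (PowerSeries.X : PowerSeries k) ^ N ∣ Φ x i - f i) :
    ∃ φ : AdicCompletion (maximalIdeal A) A →+* (Fin n → PowerSeries k), Function.Injective φ ∧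
      (∀ x : A, φ (algebraMap A (AdicCompletion (maximalIdeal A) A) x) = Φ x) ∧
      Set.range φ = {f | ∀ i j, PowerSeries.constantCoeff (f i) = PowerSeries.constantCoeff (f j)} := by
  let B := AdicCompletion (maximalIdeal A) A
  haveI : IsNoetherianRing B := Cohen12.isNoetherianRing_completion A
  choose r hr using fun (y : B) (N : ℕ) => Cohen12.exists_sub_mem_pow A N y
  have hext : ∀ {f g : Fin n → PowerSeries k},
      (∀ (N : ℕ) i, (PowerSeries.X : PowerSeries k) ^ N ∣ f i - g i) → f = g := fun {f g} h =>
    funext fun i => PowerSeries.ext fun m => sub_eq_zero.1 (by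
      simpa using PowerSeries.X_pow_dvd_iff.1 (h (m + 1) i) m (Nat.lt_succ_self m))
  let φ : B → (Fin n → PowerSeries k) := fun y i =>
    PowerSeries.mk fun m => PowerSeries.coeff m (Φ (r y (m + 1)) i)
  have hφ : ∀ (y : B) (N : ℕ) (a : A), y - algebraMap A B a ∈ maximalIdeal B ^ N →
      ∀ i, (PowerSeries.X : PowerSeries k) ^ N ∣ φ y i - Φ a i := by
    intro y N a ha i
    rw [PowerSeries.X_pow_dvd_iff]
    intro m hm
    have h1 : algebraMap A B (r y (m + 1) - a) ∈ maximalIdeal B ^ (m + 1) := by
      have : algebraMap A B (r y (m + 1) - a) = (y - algebraMap A B a) - (y - algebraMap A B (r y (m + 1))) := by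
        rw [map_sub]; ring
      rw [this]
      exact sub_mem (Ideal.pow_le_pow_right hm ha) (hr y (m + 1))
    have h2 := (hord _ _).1 ((Cohen12.algebraMap_mem_pow_iff A (m + 1) _).1 h1) i
    have h3 := PowerSeries.X_pow_dvd_iff.1 h2 m (Nat.lt_succ_self m)
    simpa [φ] using h3
  let φ' : B →+* (Fin n → PowerSeries k) :=
    { toFun := φ
      map_one' := hext fun N i => by simpa using hφ 1 N 1 (by simp) i
      map_mul' := fun x y => hext fun N i => by
        have h1 := hφ x N _ (hr x N) i
        have h2 := hφ y N _ (hr y N) i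
        have h3 := hφ (x * y) N (r x N * r y N) (by
          have : x * y - algebraMap A B (r x N * r y N) =
              (x - algebraMap A B (r x N)) * y + algebraMap A B (r x N) * (y - algebraMap A B (r y N)) := by
            rw [map_mul]; ring
          rw [this]
          exact add_mem (Ideal.mul_mem_right _ _ (hr x N)) (Ideal.mul_mem_left _ _ (hr y N))) i
        rw [map_mul, Pi.mul_apply] at h3
        refine (dvd_sub h3 (dvd_add (dvd_mul_of_dvd_left h1 (φ y i))
          (dvd_mul_of_dvd_right h2 (Φ (r x N) i)))).trans (dvd_of_eq ?_)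
        rw [Pi.mul_apply]; ring
      map_zero' := hext fun N i => by simpa using hφ 0 N 0 (by simp) i
      map_add' := fun x y => hext fun N i => by
        have h1 := hφ x N _ (hr x N) i
        have h2 := hφ y N _ (hr y N) i
        have h3 := hφ (x + y) N (r x N + r y N) (by
          rw [map_add, add_sub_add_comm]; exact add_mem (hr x N) (hr y N)) i
        rw [map_add, Pi.add_apply] at h3
        refine (dvd_sub h3 (dvd_add h1 h2)).trans (dvd_of_eq ?_)
        rw [Pi.add_apply]; ring }
  refine ⟨φ', (injective_iff_map_eq_zero φ').2 fun y hy => ?_, fun x => hext fun N i => hφ _ N x (by rw [sub_self]; exact zero_mem _) i, ?_⟩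
  · have h0 : y ∈ ⨅ N : ℕ, maximalIdeal B ^ N := Ideal.mem_iInf.2 fun N => by
      have h1 : r y N ∈ maximalIdeal A ^ N := (hord _ _).2 fun i => by
        have h2 := hφ y N _ (hr y N) i
        rw [show φ y = 0 from hy, Pi.zero_apply, zero_sub] at h2
        exact dvd_neg.1 h2
      have := add_mem (hr y N) ((Cohen12.algebraMap_mem_pow_iff A N _).2 h1)
      simpa using this
    rwa [Ideal.iInf_pow_eq_bot_of_isLocalRing _ (maximalIdeal.isMaximal B).ne_top, Ideal.mem_bot] at h0
  · ext f
    constructor
    · rintro ⟨y, rfl⟩ i j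
      have h1 := hφ y 1 _ (hr y 1) i
      have h2 := hφ y 1 _ (hr y 1) j
      rw [pow_one, PowerSeries.X_dvd_iff, map_sub, sub_eq_zero] at h1 h2
      show PowerSeries.constantCoeff (φ y i) = PowerSeries.constantCoeff (φ y j)
      rw [h1, h2, hconst]
    · intro hf
      choose a ha using happ f hf
      haveI := Cohen12.isAdicComplete_completion A
      obtain ⟨L, hL⟩ := IsPrecomplete.prec (I := maximalIdeal B) inferInstance
        (f := fun N => algebraMap A B (a N)) (fun {i j} hij => by
          rw [SModEq.sub_mem, smul_eq_mul, Ideal.mul_top, ← map_sub, Cohen12.algebraMap_mem_pow_iff, hord]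
          intro l
          rw [map_sub, Pi.sub_apply]
          exact (dvd_sub (ha i l) ((pow_dvd_pow _ hij).trans (ha j l))).trans (dvd_of_eq (by ring)))
      refine ⟨L, hext fun N i => ?_⟩
      have h1 := hφ L N (a N) (by
        have := (hL N).symm
        rwa [SModEq.sub_mem, smul_eq_mul, Ideal.mul_top] at this) i
      exact (dvd_add h1 (ha N i)).trans (dvd_of_eq (by show _ = φ L i - f i; ring))

end Groth.Agent.Delta12
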