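import Groth.Agent.Delta12.Multicross
import Groth.Agent.Delta12.Axes
import Groth.Agent.Delta12.CplExpand
import Groth.Agent.Delta12.Cotangent
import Groth.Agent.Crv77.PointDeg
import Groth.Agent.Crv77.DivLe
import Groth.Agent.HilbCurve12.Model
import Groth.Agent.CAlg1.NagataTheorem
import Groth.Prelude.Def_Curv2
import Groth.Prelude.Def_Brnch

/-!
Local rings at closed points of reduced curves over algebraically closed fields, and ordinary multiple points.
-/

set_option autoImplicit false
set_option linter.style.haveILetI false
set_option maxHeartbeats 1600000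
set_option synthInstance.maxHeartbeats 100000
set_option backward.isDefEq.respectTransparency.types false

universe u

open CategoryTheory AlgebraicGeometry IsLocalRing

noncomputable section

namespace Groth.Agent.Delta12

theorem curve_stalk_facts (k : Type u) [Field k] [IsAlgClosed k]
    (X : Scheme.{u}) [X.Over (Spec (CommRingCat.of k))]
    [LocallyOfFiniteType (X ↘ (Spec (CommRingCat.of k)))]
    (hequi : ∀ Z ∈ irreducibleComponents (X : Type u), topologicalKrullDim Z = 1)
    (x : X) (hx : IsClosed ({x} : Set X)) :
    CAlg.IsNagata (X.presheaf.stalk x) ∧ ringKrullDim (X.presheaf.stalk x) = 1 ∧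
      Function.Bijective ((residue (X.presheaf.stalk x)).comp (Curv2.stalkMap k X x)) := by
  refine ⟨?_, ?_, ?_⟩
  · obtain ⟨U, hU, hxU, -⟩ := exists_isAffineOpen_mem_and_subset (X := X) (U := ⊤) (x := x) trivial
    have hft : ((X ↘ Spec (CommRingCat.of k)).appLE ⊤ U (le_top)).hom.FiniteType :=
      LocallyOfFiniteType.finiteType_appLE _ (isAffineOpen_top _) hU _
    let φ : k →+* Γ(X, U) :=
      ((X ↘ Spec (CommRingCat.of k)).appLE ⊤ U le_top).hom.comp (Scheme.ΓSpecIso (CommRingCat.of k)).inv.hom
    have hφ : φ.FiniteType := hft.comp (RingHom.FiniteType.of_surjective _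
      (Scheme.ΓSpecIso (CommRingCat.of k)).symm.commRingCatIsoToRingEquiv.surjective)
    letI : Algebra k Γ(X, U) := φ.toAlgebra
    haveI : Algebra.FiniteType k Γ(X, U) := hφ
    have hN := CAlg1.Nag.isNagata_of_finiteType (S := Γ(X, U)) (HilbCurve12.isNagata_field k)
    letI : Algebra Γ(X, U) (X.presheaf.stalk x) := TopCat.Presheaf.algebra_section_stalk X.presheaf (U := U) ⟨x, hxU⟩
    haveI := hU.isLocalization_stalk ⟨x, hxU⟩
    exact CAlg1.Nag.isNagata_localization hN (hU.primeIdealOf ⟨x, hxU⟩).asIdeal.primeCompl _
  · refine le_antisymm ((Crv77.stalk_dim_le x).trans (Crv77.dim_le_one_of_components hequi)) ?_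
    rw [ringKrullDim_stalk_eq_coheight]
    obtain ⟨Z, hZ, hxZ⟩ : ∃ Z ∈ irreducibleComponents (X : Type u), x ∈ Z :=
      ⟨irreducibleComponent x, irreducibleComponent_mem_irreducibleComponents x, mem_irreducibleComponent⟩
    have hne : IsIrreducible Z := hZ.1
    have hη : hne.genericPoint ≠ x := fun h => by
      have hcl : closure {hne.genericPoint} = Z := by
        rw [hne.genericPoint_closure_eq, (isClosed_of_mem_irreducibleComponents Z hZ).closure_eq]
      rw [h, hx.closure_eq] at hcl
      have h1 := hequi Z hZ
      subst hcl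
      haveI : Subsingleton (TopologicalSpace.IrreducibleCloseds ({x} : Set X)) := ⟨fun a b => TopologicalSpace.IrreducibleCloseds.ext
        ((a.isIrreducible.nonempty.eq_univ).trans b.isIrreducible.nonempty.eq_univ.symm)⟩
      have h0 : topologicalKrullDim ({x} : Set X) ≤ 0 := Order.krullDim_nonpos_of_subsingleton
      rw [h1] at h0
      exact not_lt.2 h0 zero_lt_one
    have hsp : hne.genericPoint ⤳ x := by
      rw [specializes_iff_mem_closure, hne.genericPoint_closure_eq]
      exact subset_closure hxZ
    have hlt : x < hne.genericPoint :=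
      lt_of_le_not_ge hsp fun h => hη (Specializes.antisymm hsp h).eq
    exact_mod_cast Order.one_le_iff_pos.2 (Order.coheight_pos.2 fun hmax => hlt.not_ge (hmax hlt.le))
  · exact Crv77.resMap_bijective k hx

/-- two rings with the same image under injective maps -/
theorem equiv_of_range_eq {R S T : Type u} [CommRing R] [CommRing S] [CommRing T] (f : R →+* T) (g : S →+* T)
    (hf : Function.Injective f) (hg : Function.Injective g) (h : Set.range f = Set.range g) :
    ∃ e : R ≃+* S, ∀ r, g (e r) = f r := by
  choose a ha using fun r => (h ▸ Set.mem_range_self r : f r ∈ Set.range g)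
  choose b hb using fun s => (h.symm ▸ Set.mem_range_self s : g s ∈ Set.range f)
  exact ⟨{ toFun := a
           invFun := b
           left_inv := fun r => hf (by rw [hb, ha])
           right_inv := fun s => hg (by rw [ha, hb])
           map_mul' := fun x y => hg (by rw [map_mul, ha, ha, ha, map_mul])
           map_add' := fun x y => hg (by rw [map_add, ha, ha, ha, map_add]) }, ha⟩

/-- **A local ring whose completion is a multicross.** -/
theorem invariants_of_iso (A : Type u) [CommRing A] [IsLocalRing A] [IsReduced A] (k : Type u) [Field k]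
    [Algebra k A] (hN : CAlg.IsNagata A) (hdim : ringKrullDim A = 1)
    (hres : Function.Bijective (algebraMap k (ResidueField A))) (n : ℕ)
    (e : AdicCompletion (maximalIdeal A) A ≃+* (MvPowerSeries (Fin n) k ⧸ Ideal.span (mixed k n)))
    (he : ∀ c : k, e (algebraMap A _ (algebraMap k A c)) = Ideal.Quotient.mk _ (MvPowerSeries.C c)) :
    Brnch.numBranches A = n ∧ Curv2.deltaInv A + 1 = n := by
  haveI := hN.1
  have hn : n ≠ 0 := by
    rintro rfl
    have hsp : Ideal.span (mixed k 0) = ⊥ := Ideal.span_eq_bot.2 (by rintro _ ⟨i, -⟩; exact i.elim0)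
    have hbij : Function.Bijective fun c : k => (Ideal.Quotient.mk (Ideal.span (mixed k 0)) (MvPowerSeries.C c)) := by
      refine ⟨fun c c' h => ?_, fun q => ?_⟩
      · have h1 := Ideal.Quotient.eq.1 h
        rw [hsp, Ideal.mem_bot, ← map_sub] at h1
        have h2 := congrArg MvPowerSeries.constantCoeff h1
        rw [MvPowerSeries.constantCoeff_C, map_zero] at h2
        exact sub_eq_zero.1 h2
      · obtain ⟨f, rfl⟩ := Ideal.Quotient.mk_surjective q
        refine ⟨MvPowerSeries.constantCoeff f, congrArg _ (MvPowerSeries.ext fun d => ?_)⟩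
        rw [Subsingleton.elim d 0, MvPowerSeries.coeff_zero_eq_constantCoeff_apply,
          MvPowerSeries.coeff_zero_eq_constantCoeff_apply, MvPowerSeries.constantCoeff_C]
    have hF : IsField (AdicCompletion (maximalIdeal A) A) := by
      refine (RingEquiv.ofBijective ((Ideal.Quotient.mk (Ideal.span (mixed k 0))).comp MvPowerSeries.C) hbij |>.trans
        e.symm).symm.toMulEquiv.isField (Field.toIsField k)
    have hm : maximalIdeal A = ⊥ := by
      refine le_antisymm (fun a ha => ?_) bot_le
      have h1 : algebraMap A (AdicCompletion (maximalIdeal A) A) a ∈ maximalIdeal _ :=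
        AdicCompletion.maximalIdeal_eq_map (R := A) ▸ Ideal.mem_map_of_mem _ ha
      rw [(IsLocalRing.isField_iff_maximalIdeal_eq.1 hF), Ideal.mem_bot] at h1
      have h2 := (Cohen12.algebraMap_mem_pow_iff A (1 : ℕ) a)
      haveI : Module.Flat A (AdicCompletion (maximalIdeal A) A) := AdicCompletion.flat_of_isNoetherian _
      haveI : IsLocalHom (algebraMap A (AdicCompletion (maximalIdeal A) A)) :=
        ((IsLocalRing.local_hom_TFAE _).out 2 0 rfl rfl).mp AdicCompletion.maximalIdeal_eq_map.symm.le
      haveI : Module.FaithfullyFlat A (AdicCompletion (maximalIdeal A) A) :=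
        Module.FaithfullyFlat.of_flat_of_isLocalHom
      exact FaithfulSMul.algebraMap_injective A (AdicCompletion (maximalIdeal A) A) (h1.trans (map_zero _).symm)
    rw [ringKrullDim_eq_zero_of_isField (IsLocalRing.isField_iff_maximalIdeal_eq.2 hm)] at hdim
    exact zero_ne_one hdim
  haveI : NeZero n := ⟨hn⟩
  let a := Ideal.Quotient.lift (Ideal.span (mixed k n)) (axes k n) fun f hf => by rwa [← ker_axes, RingHom.mem_ker] at hf
  have ha : Function.Injective a := RingHom.lift_injective_of_ker_le_ideal _ _ ker_axes.le
  refine multicross_invariants A k hN hdim hres n (a.comp e.toRingHom) (ha.comp e.injective) (fun t => ?_) ?_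
  · show a (e _) = _
    rw [he]
    exact funext fun i => axes_C t i
  · rw [RingHom.coe_comp, Set.range_comp, show Set.range e.toRingHom = Set.univ from e.surjective.range_eq,
      Set.image_univ, ← range_axes]
    exact (Ideal.Quotient.mk_surjective).range_comp a |>.symm

/-- **The completion of an ordinary multiple point.** -/
theorem iso_of_invariants (A : Type u) [CommRing A] [IsLocalRing A] [IsReduced A] (k : Type u) [Field k]
    [Algebra k A] (hN : CAlg.IsNagata A) (hdim : ringKrullDim A = 1)
    (hres : Function.Bijective (algebraMap k (ResidueField A))) (n : ℕ)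
    (hn : Brnch.numBranches A = n) (hδ : Curv2.deltaInv A + 1 = n) :
    (∃ e : AdicCompletion (maximalIdeal A) A ≃+* (MvPowerSeries (Fin n) k ⧸ Ideal.span (mixed k n)),
        ∀ c : k, e (algebraMap A _ (algebraMap k A c)) = Ideal.Quotient.mk _ (MvPowerSeries.C c)) ∧
      Module.finrank (ResidueField A) (CotangentSpace A) = n := by
  haveI := hN.1
  haveI : NeZero n := ⟨by rintro rfl; simp at hδ⟩
  obtain ⟨Φ, hconst, hord, happ⟩ := exists_multicross A k hN hdim hres n hn hδ
  refine ⟨?_, cotangent_finrank hres Φ hord happ⟩
  obtain ⟨φ, hφinj, hφ, hφr⟩ := exists_completion_map Φ hconst hord happ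
  let a := Ideal.Quotient.lift (Ideal.span (mixed k n)) (axes k n) fun f hf => by rwa [← ker_axes, RingHom.mem_ker] at hf
  have ha : Function.Injective a := RingHom.lift_injective_of_ker_le_ideal _ _ ker_axes.le
  obtain ⟨e, he⟩ := equiv_of_range_eq φ a hφinj ha
    (hφr.trans (range_axes.symm.trans ((Ideal.Quotient.mk_surjective).range_comp a)))
  refine ⟨e, fun c => ha ?_⟩
  rw [he, hφ, AlgHom.commutes]
  exact funext fun i => (axes_C c i).symm

end Groth.Agent.Delta12
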