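import Groth.Agent.Delta12.Main
import Groth.Agent.HilbCurve12.DvrExp
import Groth.Agent.Cohen12.Completion
import Groth.Agent.VarNorm.Branches

/-!
The normalisation of a one dimensional reduced Nagata local algebra and its expansions in power series.
-/

set_option autoImplicit false
set_option linter.style.haveILetI false
set_option maxHeartbeats 3200000
set_option synthInstance.maxHeartbeats 200000
set_option backward.isDefEq.respectTransparency false
set_option backward.isDefEq.respectTransparency.types false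

universe u

open IsLocalRing

noncomputable section

namespace Groth.Agent.Delta12

variable (A : Type u) [CommRing A] [IsLocalRing A] [IsReduced A]

/-- the normalisation is finite with locally principal maximal ideals, finitely many of them -/
theorem normalization_facts (hN : CAlg.IsNagata A) (hdim : ringKrullDim A = 1) :
    Module.Finite A (integralClosure A (FractionRing A)) ∧
      PrincipalMax (integralClosure A (FractionRing A)) ∧
      Finite (MaximalSpectrum (integralClosure A (FractionRing A))) := by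
  haveI := hN.1
  obtain ⟨c, hcm, hc, hpow⟩ := exists_regular A hdim
  let F := FractionRing A
  haveI : IsReduced F := isReduced_localizationPreserves (nonZeroDivisors A) F inferInstance
  haveI : Algebra.FiniteType A F := by
    refine ⟨⟨{↑(IsLocalization.map_units F (⟨c, hc⟩ : nonZeroDivisors A)).unit⁻¹}, eq_top_iff.2 fun z _ => ?_⟩⟩
    obtain ⟨⟨a, s⟩, hz⟩ := IsLocalization.surj (nonZeroDivisors A) z
    obtain ⟨n, hn⟩ := hpow s s.2
    obtain ⟨r, hr⟩ := Ideal.mem_span_singleton'.1 hn
    set u := (IsLocalization.map_units F (⟨c, hc⟩ : nonZeroDivisors A)).unit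
    have : z = algebraMap A F (a * r) * ((u⁻¹ : Fˣ) : F) ^ n := by
      rw [← Units.val_pow_eq_pow_val, inv_pow, Units.eq_mul_inv_iff_mul_eq, Units.val_pow_eq_pow_val]
      show z * algebraMap A F c ^ n = _
      rw [← map_pow, ← hr, map_mul, map_mul, ← hz]
      ring
    rw [this]
    exact mul_mem (Subalgebra.algebraMap_mem _ _) (pow_mem (Algebra.subset_adjoin (by simp)) n)
  haveI hfin : Module.Finite A (integralClosure A F) := CAlg1.Nag.finite_integralClosure_reduced hN
  haveI : IsNoetherian A (integralClosure A F) := isNoetherian_of_isNoetherianRing_of_finite A _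
  haveI : IsNoetherianRing (integralClosure A F) := isNoetherian_of_tower A inferInstance
  haveI : Algebra.IsIntegral A (integralClosure A F) := Algebra.IsIntegral.of_finite A _
  let C := integralClosure A F
  have hcC : IsUnit ((algebraMap A C c : C) : F) := IsLocalization.map_units F (⟨c, hc⟩ : nonZeroDivisors A)
  have hover : ∀ q : Ideal C, q.IsMaximal → algebraMap A C c ∈ q ∧
      q ∈ (Ideal.span {algebraMap A C c}).minimalPrimes := by
    intro q hq
    haveI := hq
    have hqA : q.comap (algebraMap A C) = maximalIdeal A :=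
      eq_maximalIdeal (Ideal.isMaximal_comap_of_isIntegral_of_isMaximal q)
    have hcq : algebraMap A C c ∈ q := by
      show c ∈ q.comap (algebraMap A C)
      rwa [hqA]
    refine ⟨hcq, ⟨hq.isPrime, (Ideal.span_singleton_le_iff_mem _).2 hcq⟩, fun P ⟨hP, hcP⟩ hPq => ?_⟩
    haveI := hP
    have hPA : (P.comap (algebraMap A C)).IsMaximal := by
      have hcmem : c ∈ P.comap (algebraMap A C) := hcP (Ideal.mem_span_singleton_self _)
      have hle : Ring.KrullDimLE 1 A := Ring.krullDimLE_iff.2 (by rw [hdim]; rfl)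
      rcases Ring.krullDimLE_one_iff.1 hle (P.comap (algebraMap A C)) inferInstance with h | h
      · exact absurd hc (Set.disjoint_left.1 (Ideal.disjoint_nonZeroDivisors_of_mem_minimalPrimes h) hcmem)
      · exact h
    exact ((Ideal.isMaximal_of_isIntegral_of_isMaximal_comap P hPA).eq_of_le hq.ne_top hPq).ge
  refine ⟨hfin, fun q hq => ?_, ?_⟩
  · haveI := hq
    obtain ⟨hcq, hmin⟩ := hover q hq
    obtain ⟨π, hπ, a, w, hw, haw, hgen⟩ := exists_principal C (fun z hz => hz) q _ hcC hcq hmin
    refine ⟨π, hπ, hgen, fun z hz => ⟨w, hw, Subtype.ext (hcC.mul_left_cancel ?_)⟩⟩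
    have h1 := congrArg (fun x : C => (x : F)) (show algebraMap A C c * (w * z) = 0 by
      rw [← mul_assoc, ← haw, mul_assoc, hz, mul_zero])
    simpa using h1
  · haveI := ((Ideal.span {algebraMap A C c}).finite_minimalPrimes_of_isNoetherianRing C).to_subtype
    exact Finite.of_injective (fun M : MaximalSpectrum C =>
      (⟨M.asIdeal, (hover M.asIdeal M.isMaximal).2⟩ : (Ideal.span {algebraMap A C c}).minimalPrimes))
      fun M M' h => MaximalSpectrum.ext (congrArg Subtype.val h)

/-- **Expansion along a branch with trivial residue extension.** -/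
theorem exists_branch_expansion {k : Type u} [Field k] {C : Type u} [CommRing C] [Algebra k C] [IsNoetherianRing C]
    (hC : PrincipalMax C) (q : Ideal C) [q.IsMaximal] (hres : ∀ x : C, ∃ a : k, x - algebraMap k C a ∈ q) :
    ∃ ψ : C →ₐ[k] PowerSeries k,
      (∀ (x : C) (N : ℕ), (PowerSeries.X : PowerSeries k) ^ N ∣ ψ x ↔ x ∈ q ^ N) ∧
      ∀ (f : PowerSeries k) (N : ℕ), ∃ x : C, (PowerSeries.X : PowerSeries k) ^ N ∣ ψ x - f := by
  let D := Localization.AtPrime q
  obtain ⟨hdom, hdvr, -⟩ := hC.localization q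
  haveI := hdom
  haveI := hdvr
  have hD : ∀ z : D, ∃ a : k, z - algebraMap k D a ∈ IsLocalRing.maximalIdeal D := by
    intro z
    obtain ⟨x, t, rfl⟩ := IsLocalization.exists_mk'_eq q.primeCompl z
    obtain ⟨a, ha⟩ := hres x
    obtain ⟨b, hb⟩ := hres t
    have hb0 : b ≠ 0 := by
      rintro rfl
      exact t.2 (by simpa using hb)
    refine ⟨a / b, ?_⟩
    have ht : algebraMap C D t ∉ IsLocalRing.maximalIdeal D := fun h =>
      t.2 ((IsLocalization.AtPrime.to_map_mem_maximal_iff D q _).1 h)
    refine ((IsLocalRing.maximalIdeal.isMaximal D).isPrime.mem_or_mem (x := algebraMap C D t) ?_).resolve_left ht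
    have e : algebraMap C D t * (IsLocalization.mk' D x t - algebraMap k D (a / b)) =
        algebraMap C D (x - (t : C) * algebraMap k C (a / b)) := by
      rw [map_sub, map_mul, ← IsLocalization.mk'_spec' D x t, ← IsScalarTower.algebraMap_apply]
      ring
    rw [e, IsLocalization.AtPrime.to_map_mem_maximal_iff D q]
    have : x - (t : C) * algebraMap k C (a / b) =
        (x - algebraMap k C a) - ((t : C) - algebraMap k C b) * algebraMap k C (a / b) := by
      rw [sub_mul, ← map_mul, mul_div_cancel₀ _ hb0]; ring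
    rw [this]
    exact sub_mem ha (Ideal.mul_mem_right _ _ hb)
  obtain ⟨ψ, hψ, hψs, -⟩ := HilbCurve12.exists_expansion (k := k) (D := D) hD
  have hpow : ∀ (x : C) (N : ℕ), algebraMap C D x ∈ IsLocalRing.maximalIdeal D ^ N ↔ x ∈ q ^ N := by
    intro x N
    rw [← Localization.AtPrime.map_eq_maximalIdeal, ← Ideal.map_pow,
      IsLocalization.algebraMap_mem_map_algebraMap_iff q.primeCompl]
    refine ⟨fun ⟨u, hu, hux⟩ => ?_, fun hx => ⟨1, q.primeCompl.one_mem, by rwa [one_mul]⟩⟩
    have hcop : Ideal.span {u} ⊔ q ^ N = ⊤ := by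
      rw [sup_comm]
      exact Ideal.pow_sup_eq_top (Ideal.IsMaximal.out.2 _ (left_lt_sup.2 fun hle =>
        hu (hle (Ideal.mem_span_singleton_self u))))
    obtain ⟨y, hy, z, hz, hyz⟩ := Submodule.mem_sup.1 ((Ideal.eq_top_iff_one _).1 hcop)
    obtain ⟨w, rfl⟩ := Ideal.mem_span_singleton'.1 hy
    have : x = w * (u * x) + z * x := by linear_combination -x * hyz
    rw [this]
    exact add_mem (Ideal.mul_mem_left _ _ hux) (Ideal.mul_mem_right _ _ hz)
  refine ⟨ψ.comp (IsScalarTower.toAlgHom k C D), fun x N => (hψ _ N).trans (hpow x N), fun f N => ?_⟩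
  obtain ⟨z, hz⟩ := hψs f N
  obtain ⟨x, t, rfl⟩ := IsLocalization.exists_mk'_eq q.primeCompl z
  have hcop : Ideal.span {(t : C)} ⊔ q ^ N = ⊤ := by
    rw [sup_comm]
    exact Ideal.pow_sup_eq_top (Ideal.IsMaximal.out.2 _ (left_lt_sup.2 fun hle =>
      t.2 (hle (Ideal.mem_span_singleton_self _))))
  obtain ⟨y, hy, w, hw, hyw⟩ := Submodule.mem_sup.1 ((Ideal.eq_top_iff_one _).1 hcop)
  obtain ⟨v, rfl⟩ := Ideal.mem_span_singleton'.1 hy
  refine ⟨v * x, ?_⟩
  show _ ∣ ψ (algebraMap C D (v * x)) - f
  have h4 : algebraMap C D (v * x) - IsLocalization.mk' D x t =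
      algebraMap C D (-w) * IsLocalization.mk' D x t := by
    have hyw' : v * (t : C) = 1 - w := by linear_combination hyw
    rw [map_mul, ← IsLocalization.mk'_spec' D x t, ← mul_assoc, ← map_mul, hyw', map_sub, map_one, map_neg]
    ring
  have h5 : (PowerSeries.X : PowerSeries k) ^ N ∣
      ψ (algebraMap C D (v * x)) - ψ (IsLocalization.mk' D x t) := by
    rw [← map_sub, h4, map_mul]
    exact dvd_mul_of_dvd_left ((hψ _ N).2 ((hpow _ N).2 (neg_mem hw))) _
  exact (dvd_add h5 hz).trans (dvd_of_eq (by ring))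

/-- lengths of a quotient compared with those of an image -/
theorem length_image_facts {M P : Type u} [AddCommGroup M] [Module A M] [AddCommGroup P] [Module A P]
    (g : A →ₗ[A] M) (p : M →ₗ[A] P) (hp : Function.Surjective p) (hg : ∀ a ∈ maximalIdeal A, p (g a) = 0) :
    Module.length A P ≤ 1 + Module.length A (M ⧸ LinearMap.range g) ∧
      (Module.length A P = 1 + Module.length A (M ⧸ LinearMap.range g) → Module.length A P ≠ ⊤ →
        ∀ x, p x = 0 → x ∈ LinearMap.range g) := by
  let R := LinearMap.range g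
  let p' : (M ⧸ R) →ₗ[A] (P ⧸ R.map p) := R.mapQ (R.map p) p (Submodule.le_comap_map p R)
  have hp' : Function.Surjective p' := fun z => by
    obtain ⟨z, rfl⟩ := Submodule.Quotient.mk_surjective _ z
    obtain ⟨x, rfl⟩ := hp z
    exact ⟨Submodule.Quotient.mk x, rfl⟩
  have hlenR : Module.length A (R.map p) ≤ 1 := by
    let g' : A →ₗ[A] R.map p := (p.comp g).codRestrict _ fun a => ⟨_, ⟨a, rfl⟩, rfl⟩
    have hg' : Function.Surjective g' := fun ⟨z, x, ⟨a, ha⟩, hxz⟩ => ⟨a, Subtype.ext (by
      show p (g a) = z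
      rw [ha, hxz])⟩
    have hker : maximalIdeal A ≤ LinearMap.ker g' := fun a ha => Subtype.ext (hg a ha)
    haveI : IsSimpleModule A (A ⧸ maximalIdeal A) := isSimpleModule_iff_isCoatom.2 (maximalIdeal.isMaximal A).1
    refine le_of_le_of_eq (Module.length_le_of_surjective (Submodule.liftQ (maximalIdeal A) g' hker) fun z => ?_)
      (Module.length_eq_one A (A ⧸ maximalIdeal A))
    obtain ⟨a, rfl⟩ := hg' z
    exact ⟨Submodule.Quotient.mk a, rfl⟩
  have hex := Module.length_eq_add_of_exact (R.map p).subtype (R.map p).mkQ (Submodule.subtype_injective _)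
    (Submodule.mkQ_surjective _) (LinearMap.exact_subtype_mkQ (R.map p))
  refine ⟨hex ▸ add_le_add hlenR (Module.length_le_of_surjective p' hp'), fun heq htop x hx => ?_⟩
  have hMR : Module.length A (M ⧸ R) ≠ ⊤ := fun h => htop (by rw [heq]; show 1 + Module.length A (M ⧸ R) = ⊤; rw [h, add_top])
  have hge : Module.length A (M ⧸ R) ≤ Module.length A (P ⧸ R.map p) := by
    refine (ENat.add_le_add_iff_left (k := 1) (by simp)).1 ?_
    show 1 + Module.length A (M ⧸ R) ≤ _
    rw [← heq, hex]
    exact add_le_add hlenR le_rfl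
  have hker : LinearMap.ker p' = ⊥ := by
    have h := Module.length_eq_add_of_exact (LinearMap.ker p').subtype p' (Submodule.subtype_injective _) hp'
      (LinearMap.exact_subtype_ker_map p')
    have h' : Module.length A (LinearMap.ker p') + Module.length A (M ⧸ R) ≤ 0 + Module.length A (M ⧸ R) := by
      rw [zero_add]
      exact le_trans (add_le_add le_rfl hge) h.ge
    have h0 := (ENat.add_le_add_iff_right hMR).1 h'
    rw [← Submodule.subsingleton_iff_eq_bot, ← Module.length_eq_zero_iff (R := A)]
    exact le_antisymm h0 zero_le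
  have : Submodule.Quotient.mk x ∈ LinearMap.ker p' := by
    rw [LinearMap.mem_ker]
    show Submodule.Quotient.mk (p x) = 0
    rw [hx, Submodule.Quotient.mk_zero]
  rw [hker, Submodule.mem_bot, Submodule.Quotient.mk_eq_zero] at this
  exact this

/-- **The case of equality `δ + 1 = #branches`.** -/
theorem exists_multicross (k : Type u) [Field k] [Algebra k A] (hN : CAlg.IsNagata A) (hdim : ringKrullDim A = 1)
    (hres : Function.Bijective (algebraMap k (ResidueField A)))
    (n : ℕ) (hn : Brnch.numBranches A = n) (hδ : Curv2.deltaInv A + 1 = n) :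
    ∃ Φ : A →ₐ[k] (Fin n → PowerSeries k),
      (∀ (x : A) (i j : Fin n), PowerSeries.constantCoeff (Φ x i) = PowerSeries.constantCoeff (Φ x j)) ∧
      (∀ (x : A) (N : ℕ), x ∈ maximalIdeal A ^ N ↔ ∀ i, (PowerSeries.X : PowerSeries k) ^ N ∣ Φ x i) ∧
      ∀ f : Fin n → PowerSeries k,
        (∀ i j, PowerSeries.constantCoeff (f i) = PowerSeries.constantCoeff (f j)) →
        ∀ N, ∃ x : A, ∀ i, (PowerSeries.X : PowerSeries k) ^ N ∣ Φ x i - f i := by
  classical
  haveI := hN.1
  obtain ⟨hfin, hC, hMfin⟩ := normalization_facts A hN hdim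
  let F := FractionRing A
  let C := integralClosure A F
  haveI := hfin
  haveI : Algebra.IsIntegral A C := Algebra.IsIntegral.of_finite A C
  haveI : IsNoetherian A C := isNoetherian_of_isNoetherianRing_of_finite A C
  haveI : IsNoetherianRing C := isNoetherian_of_tower A inferInstance
  haveI := hMfin
  cases nonempty_fintype (MaximalSpectrum C)
  have hcard : Fintype.card (MaximalSpectrum C) = n := by
    have := VarNorm.numBranches_eq A F (minimalPrimes.finite_of_isNoetherianRing A)
    rw [hn, ENat.card_eq_coe_fintype_card] at this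
    exact_mod_cast this.symm
  have hinjC : Function.Injective (algebraMap A C) := fun a b h =>
    IsFractionRing.injective A F (congrArg Subtype.val h)
  haveI : Nontrivial C := hinjC.nontrivial
  have hMA : ∀ M : MaximalSpectrum C, M.asIdeal.comap (algebraMap A C) = maximalIdeal A := fun M =>
    eq_maximalIdeal (Ideal.isMaximal_comap_of_isIntegral_of_isMaximal (R := A) M.asIdeal)
  -- the comparison with the product of residue rings
  let P := ∀ M : MaximalSpectrum C, C ⧸ M.asIdeal
  let p : C →ₗ[A] P := LinearMap.pi fun M => (Ideal.Quotient.mkₐ A M.asIdeal).toLinearMap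
  have hp : Function.Surjective p := fun g => by
    choose z hz using fun M => Ideal.Quotient.mk_surjective (g M)
    obtain ⟨x, hx⟩ := Ideal.exists_forall_sub_mem_ideal (I := fun M : MaximalSpectrum C => M.asIdeal)
      (fun M M' h => Ideal.isCoprime_iff_sup_eq.2
        (Ideal.IsMaximal.coprime_of_ne M.isMaximal M'.isMaximal fun e => h (MaximalSpectrum.ext e))) z
    exact ⟨x, funext fun M => (Ideal.Quotient.eq.2 (hx M)).trans (hz M)⟩
  obtain ⟨hfacts, hfacts'⟩ := length_image_facts A (Algebra.linearMap A C) p hp fun a ha => funext fun M =>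
    Ideal.Quotient.eq_zero_iff_mem.2 (show a ∈ M.asIdeal.comap (algebraMap A C) by rwa [hMA])
  have hδ' : (1 : ℕ∞) + Module.length A (C ⧸ LinearMap.range (Algebra.linearMap A C)) = n := by
    rw [add_comm]; exact hδ
  have hone : ∀ M : MaximalSpectrum C, 1 ≤ Module.length A (C ⧸ M.asIdeal) := fun M => by
    rw [Order.one_le_iff_pos, Module.length_pos_iff]
    exact Ideal.Quotient.nontrivial_iff.2 M.isMaximal.ne_top
  have hub : Module.length A P ≤ n := hδ' ▸ hfacts
  rw [Module.length_pi_of_fintype] at hub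
  have hlen1 : ∀ M : MaximalSpectrum C, Module.length A (C ⧸ M.asIdeal) = 1 := fun M => by
    refine le_antisymm ?_ (hone M)
    have h1 : ∑ _M ∈ Finset.univ.erase M, (1 : ℕ∞) ≤ ∑ M' ∈ Finset.univ.erase M, Module.length A (C ⧸ M'.asIdeal) :=
      Finset.sum_le_sum fun M' _ => hone M'
    rw [← Finset.add_sum_erase _ _ (Finset.mem_univ M)] at hub
    have h2 : Module.length A (C ⧸ M.asIdeal) + ((n - 1 : ℕ) : ℕ∞) ≤ n := by
      refine le_trans (add_le_add le_rfl (le_of_eq_of_le ?_ h1)) hub
      rw [Finset.sum_const, Finset.card_erase_of_mem (Finset.mem_univ M), Finset.card_univ, hcard, nsmul_one]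
    have hn1 : 1 ≤ n := hcard ▸ Fintype.card_pos_iff.2 ⟨M⟩
    cases h : Module.length A (C ⧸ M.asIdeal) with
    | top => rw [h, top_add] at h2; exact absurd h2 (not_le.2 (ENat.coe_lt_top n))
    | coe l =>
      rw [h] at h2
      norm_cast at h2 ⊢
      omega
  -- residue extensions are trivial
  have hresC : ∀ (M : MaximalSpectrum C) (x : C), ∃ a : k, x - algebraMap k C a ∈ M.asIdeal := by
    intro M x
    haveI : IsSimpleModule A (C ⧸ M.asIdeal) := Module.length_eq_one_iff.1 (hlen1 M)
    let g : A →ₗ[A] C ⧸ M.asIdeal := Algebra.linearMap A _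
    have hg : Function.Surjective g := by
      rw [← LinearMap.range_eq_top]
      refine (eq_bot_or_eq_top _).resolve_left fun h => ?_
      have : g 1 ∈ LinearMap.range g := ⟨1, rfl⟩
      rw [h, Submodule.mem_bot] at this
      exact M.isMaximal.ne_top ((Ideal.eq_top_iff_one _).2 (Ideal.Quotient.eq_zero_iff_mem.1
        (by simpa [g] using this)))
    obtain ⟨a, ha⟩ := hg (Ideal.Quotient.mk _ x)
    obtain ⟨t, ht⟩ := hres.2 (residue A a)
    refine ⟨t, ?_⟩
    have h1 : a - algebraMap k A t ∈ maximalIdeal A := by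
      rw [← residue_eq_zero_iff, map_sub, ← ht]
      exact sub_self _
    have h2 : algebraMap A C (a - algebraMap k A t) ∈ M.asIdeal :=
      show _ ∈ M.asIdeal.comap (algebraMap A C) by rwa [hMA]
    rw [map_sub, ← IsScalarTower.algebraMap_apply] at h2
    have h3 : x - algebraMap A C a ∈ M.asIdeal := Ideal.Quotient.eq.1 ha.symm
    simpa using add_mem h3 h2
  -- the radical of the normalisation lies in `A`
  have hJ : ∀ x : C, (∀ M : MaximalSpectrum C, x ∈ M.asIdeal) → ∃ a ∈ maximalIdeal A, algebraMap A C a = x := by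
    intro x hx
    have hsum : Module.length A P = n := by
      rw [Module.length_pi_of_fintype, Finset.sum_congr rfl fun M _ => hlen1 M, Finset.sum_const,
        Finset.card_univ, hcard, nsmul_one]
    have hpx : p x = 0 := funext fun M => Ideal.Quotient.eq_zero_iff_mem.2 (hx M)
    have this := hfacts' (hsum.trans hδ'.symm) (by rw [hsum]; exact ENat.coe_ne_top n) x hpx
    obtain ⟨a, ha⟩ := this
    obtain ⟨M⟩ : Nonempty (MaximalSpectrum C) := inferInstance
    refine ⟨a, ?_, ha⟩
    rw [← hMA M, Ideal.mem_comap, show algebraMap A C a = x from ha]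
    exact hx M
  let J : Ideal C := ⨅ M : MaximalSpectrum C, M.asIdeal
  have hJm : ∀ (a : A) (N : ℕ), a ∈ maximalIdeal A ^ N ↔ algebraMap A C a ∈ J ^ N := by
    have hmapJ : (maximalIdeal A).map (algebraMap A C) ≤ J := Ideal.map_le_iff_le_comap.2 fun a ha =>
      Ideal.mem_iInf.2 fun M => show a ∈ M.asIdeal.comap (algebraMap A C) by rwa [hMA]
    have hback : ∀ N, ∀ x ∈ J ^ N, ∃ a ∈ maximalIdeal A ^ N, algebraMap A C a = x ∨ N = 0 := by
      intro N
      induction N with
      | zero => exact fun x _ => ⟨0, by simp, Or.inr rfl⟩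
      | succ N ih =>
        intro x hx
        rw [pow_succ] at hx
        refine Submodule.mul_induction_on hx (fun y hy z hz => ?_) ?_
        · obtain ⟨b, hb, hbz⟩ := hJ z (Ideal.mem_iInf.1 hz)
          rcases Nat.eq_zero_or_pos N with rfl | hN
          · obtain ⟨e, he, hez⟩ := hJ (y * z) fun M => M.asIdeal.mul_mem_left _ (Ideal.mem_iInf.1 hz M)
            exact ⟨e, by simpa using he, Or.inl hez⟩
          · obtain ⟨a, ha, hay⟩ := ih y hy
            refine ⟨a * b, by rw [pow_succ]; exact Ideal.mul_mem_mul ha hb, Or.inl ?_⟩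
            rw [map_mul, hbz, hay.resolve_right hN.ne']
        · rintro y z ⟨a, ha, hay⟩ ⟨b, hb, hbz⟩
          exact ⟨a + b, add_mem ha hb, Or.inl (by
            rw [map_add, hay.resolve_right N.succ_ne_zero, hbz.resolve_right N.succ_ne_zero])⟩
    intro a N
    constructor
    · intro ha
      have := Ideal.mem_map_of_mem (algebraMap A C) ha
      rw [Ideal.map_pow] at this
      exact Ideal.pow_right_mono hmapJ N this
    · intro ha
      rcases Nat.eq_zero_or_pos N with rfl | hN
      · simp
      · obtain ⟨b, hb, hab⟩ := hback N _ ha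
        rwa [← hinjC (hab.resolve_right hN.ne')]
  have hcop : ∀ N, Pairwise fun M M' : MaximalSpectrum C => IsCoprime (M.asIdeal ^ N) (M'.asIdeal ^ N) :=
    fun N M M' h => IsCoprime.pow (Ideal.isCoprime_iff_sup_eq.2 (Ideal.IsMaximal.coprime_of_ne M.isMaximal
      M'.isMaximal fun e => h (MaximalSpectrum.ext e)))
  have hJpow : ∀ N, J ^ N = ⨅ M : MaximalSpectrum C, M.asIdeal ^ N := fun N => by
    have h1 : J = ∏ M : MaximalSpectrum C, M.asIdeal := by
      rw [Ideal.prod_eq_iInf_of_pairwise_isCoprime (fun M _ M' _ h => ?_)]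
      · simp [J]
      · simpa using hcop 1 h
    rw [h1, ← Finset.prod_pow, Ideal.prod_eq_iInf_of_pairwise_isCoprime (fun M _ M' _ h => hcop N h)]
    simp
  choose ψ hψ hψs using fun M : MaximalSpectrum C => exists_branch_expansion (k := k) hC M.asIdeal (hresC M)
  let e : Fin n ≃ MaximalSpectrum C := ((Fintype.equivFin _).trans (finCongr hcard)).symm
  let Φ : A →ₐ[k] (Fin n → PowerSeries k) :=
    AlgHom.pi fun i => (ψ (e i)).comp (IsScalarTower.toAlgHom k A C)
  have hΦ : ∀ (x : A) i, Φ x i = ψ (e i) (algebraMap A C x) := fun x i => rfl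
  have hord : ∀ (x : A) (N : ℕ), x ∈ maximalIdeal A ^ N ↔ ∀ i, (PowerSeries.X : PowerSeries k) ^ N ∣ Φ x i := by
    intro x N
    simp only [hJm, hJpow, Ideal.mem_iInf, hΦ, hψ]
    exact ⟨fun h i => h (e i), fun h M => by simpa using h (e.symm M)⟩
  have hconst : ∀ (x : A), ∃ t : k, ∀ i, PowerSeries.constantCoeff (Φ x i) = t := by
    intro x
    obtain ⟨t, ht⟩ := hres.2 (residue A x)
    refine ⟨t, fun i => ?_⟩
    have h1 : x - algebraMap k A t ∈ maximalIdeal A ^ 1 := by
      rw [pow_one, ← residue_eq_zero_iff, map_sub, ← ht]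
      exact sub_self _
    have h2 := (hord _ 1).1 h1 i
    rw [map_sub, AlgHom.commutes, pow_one, PowerSeries.X_dvd_iff, Pi.sub_apply, Pi.algebraMap_apply, map_sub] at h2
    simpa [PowerSeries.algebraMap_apply, sub_eq_zero] using h2
  refine ⟨Φ, fun x i j => ?_, hord, fun f hf N => ?_⟩
  · obtain ⟨t, ht⟩ := hconst x
    rw [ht, ht]
  choose z hz using fun M => hψs M (f (e.symm M)) (N + 1)
  obtain ⟨x, hx⟩ := Ideal.exists_forall_sub_mem_ideal (I := fun M : MaximalSpectrum C => M.asIdeal ^ (N + 1))
    (fun M M' h => hcop (N + 1) h) z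
  have hxψ : ∀ M, (PowerSeries.X : PowerSeries k) ^ (N + 1) ∣ ψ M x - f (e.symm M) := fun M => by
    have h1 := (hψ M _ _).2 (hx M)
    rw [map_sub] at h1
    exact (dvd_add h1 (hz M)).trans (dvd_of_eq (by ring))
  obtain ⟨t, ht⟩ : ∃ t : k, ∀ i, PowerSeries.constantCoeff (f i) = t := by
    rcases isEmpty_or_nonempty (Fin n) with h | h
    · exact ⟨0, isEmptyElim⟩
    · exact ⟨_, fun i => hf i h.some⟩
  obtain ⟨a, -, ha⟩ := hJ (x - algebraMap k C t) fun M => by
    have h1 := (dvd_pow_self (PowerSeries.X : PowerSeries k) N.succ_ne_zero).trans (hxψ M)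
    have h2 : (PowerSeries.X : PowerSeries k) ^ 1 ∣ ψ M (x - algebraMap k C t) := by
      rw [pow_one, PowerSeries.X_dvd_iff, map_sub, AlgHom.commutes, map_sub]
      rw [PowerSeries.X_dvd_iff, map_sub, ht] at h1
      simpa [PowerSeries.algebraMap_apply] using h1
    simpa using (hψ M _ 1).1 h2
  refine ⟨a + algebraMap k A t, fun i => ?_⟩
  rw [hΦ, map_add, ← IsScalarTower.algebraMap_apply, ha, sub_add_cancel]
  exact (pow_dvd_pow _ N.le_succ).trans (by simpa using hxψ (e i))

end Groth.Agent.Delta12
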