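import Mathlib.RingTheory.DiscreteValuationRing.Basic
import Mathlib.RingTheory.DiscreteValuationRing.TFAE
import Mathlib.RingTheory.Filtration
import Mathlib.RingTheory.IntegralClosure.IntegrallyClosed
import Mathlib.RingTheory.Localization.AtPrime.Basic
import Mathlib.RingTheory.Localization.Ideal
import Mathlib.RingTheory.Localization.Submodule
import Mathlib.RingTheory.Ideal.Height
import Mathlib.LinearAlgebra.Matrix.Charpoly.LinearMap

/-!
Rings all of whose maximal ideals are locally principal and regular are integrally closed.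
-/

set_option autoImplicit false
set_option linter.style.haveILetI false

universe u

open IsLocalRing

namespace Groth.Agent.Delta12

theorem domain_and_closed (T : Type u) [CommRing T] [IsNoetherianRing T] [IsLocalRing T] (π : T)
    (hmax : maximalIdeal T = Ideal.span {π}) (hπ : π ∈ nonZeroDivisors T) :
    ∃ _ : IsDomain T, IsDiscreteValuationRing T ∧ IsIntegrallyClosed T := by
  have hfac : ∀ x : T, x ≠ 0 → ∃ n : ℕ, Associated (π ^ n) x := by
    intro x hx
    by_contra hne
    push_neg at hne
    have hall : ∀ n, x ∈ maximalIdeal T ^ n := fun n => by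
      induction n with
      | zero => simp
      | succ n ih =>
        rw [hmax, Ideal.span_singleton_pow, Ideal.mem_span_singleton'] at ih
        obtain ⟨a, ha⟩ := ih
        by_cases hu : IsUnit a
        · exact absurd (ha ▸ (associated_unit_mul_left (π ^ n) a hu).symm) (hne n)
        · rw [pow_succ', ← ha]
          exact Ideal.mul_mem_mul hu (by rw [hmax]; exact Ideal.pow_mem_pow (Ideal.mem_span_singleton_self π) n)
    exact hx (by
      rw [← Ideal.mem_bot, ← Ideal.iInf_pow_eq_bot_of_isLocalRing _ (maximalIdeal.isMaximal T).ne_top]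
      exact Ideal.mem_iInf.2 hall)
  haveI : IsDomain T := by
    haveI : NoZeroDivisors T := ⟨fun {x y} h => by
      by_contra hxy
      push_neg at hxy
      obtain ⟨i, u, hu⟩ := hfac x hxy.1
      obtain ⟨j, v, hv⟩ := hfac y hxy.2
      rw [← hu, ← hv, show π ^ i * ↑u * (π ^ j * ↑v) = π ^ (i + j) * ↑(u * v) by push_cast; ring,
        Units.mul_left_eq_zero] at h
      exact one_ne_zero (α := T) ((mem_nonZeroDivisors_iff_right.1 (pow_mem hπ (i + j))) 1 (by rw [one_mul, h]))⟩
    exact NoZeroDivisors.to_isDomain T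
  refine ⟨inferInstance, ?_⟩
  suffices IsDiscreteValuationRing T from ⟨this, inferInstance⟩
  have hirr : Irreducible π := by
    refine ⟨fun h => (maximalIdeal.isMaximal T).ne_top (hmax.trans (Ideal.span_singleton_eq_top.2 h)), ?_⟩
    intro a b hab
    by_contra h
    push_neg at h
    obtain ⟨a', rfl⟩ : π ∣ a := Ideal.mem_span_singleton.1 (hmax.le h.1)
    obtain ⟨b', rfl⟩ : π ∣ b := Ideal.mem_span_singleton.1 (hmax.le h.2)
    have : π * (1 - a' * π * b') = 0 := by linear_combination hab
    rcases mul_eq_zero.1 this with h0 | h0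
    · exact zero_notMem_nonZeroDivisors (h0 ▸ hπ)
    · exact (maximalIdeal.isMaximal T).ne_top (hmax.trans (Ideal.span_singleton_eq_top.2
        (IsUnit.of_mul_eq_one (a' * b') (by linear_combination -h0))))
  haveI : IsDiscreteValuationRing T := IsDiscreteValuationRing.ofHasUnitMulPowIrreducibleFactorization
    ⟨π, hirr, fun {x} hx => hfac x hx⟩
  infer_instance

/-- locally principal and regular maximal ideals -/
def PrincipalMax (S : Type u) [CommRing S] : Prop :=
  ∀ n : Ideal S, n.IsMaximal → ∃ π ∈ n, (∀ y ∈ n, ∃ e ∉ n, e * y ∈ Ideal.span {π}) ∧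
    ∀ z, π * z = 0 → ∃ e ∉ n, e * z = 0

theorem PrincipalMax.localization {S : Type u} [CommRing S] [IsNoetherianRing S] (hS : PrincipalMax S)
    (n : Ideal S) [n.IsMaximal] :
    ∃ _ : IsDomain (Localization.AtPrime n),
      IsDiscreteValuationRing (Localization.AtPrime n) ∧ IsIntegrallyClosed (Localization.AtPrime n) := by
  obtain ⟨π, hπn, hgen, hreg⟩ := hS n ‹_›
  haveI : IsNoetherianRing (Localization.AtPrime n) :=
    IsLocalization.isNoetherianRing n.primeCompl _ inferInstance
  refine domain_and_closed _ (algebraMap S _ π) ?_ ?_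
  · rw [← Localization.AtPrime.map_eq_maximalIdeal, ← Set.image_singleton, ← Ideal.map_span]
    refine le_antisymm (Ideal.map_le_iff_le_comap.2 fun y hy => ?_)
      (Ideal.map_mono ((Ideal.span_singleton_le_iff_mem _).2 hπn))
    obtain ⟨e, he, hey⟩ := hgen y hy
    have hu : IsUnit (algebraMap S (Localization.AtPrime n) e) :=
      IsLocalization.map_units (M := n.primeCompl) (Localization.AtPrime n) ⟨e, he⟩
    rw [Ideal.mem_comap, ← Ideal.unit_mul_mem_iff_mem _ hu, ← map_mul]
    exact Ideal.mem_map_of_mem _ hey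
  · rw [mem_nonZeroDivisors_iff_right]
    intro w hw
    obtain ⟨⟨z, e⟩, hz⟩ := IsLocalization.surj n.primeCompl w
    have h0 : algebraMap S (Localization.AtPrime n) (π * z) = 0 := by
      rw [map_mul, ← hz, mul_left_comm, ← mul_assoc, hw, zero_mul]
    obtain ⟨e₁, he₁⟩ := (IsLocalization.map_eq_zero_iff n.primeCompl _ _).1 h0
    obtain ⟨e₂, he₂, he₂'⟩ := hreg (e₁ * z) (by rw [← he₁]; ring)
    have : algebraMap S (Localization.AtPrime n) z = 0 :=
      (IsLocalization.map_eq_zero_iff n.primeCompl _ _).2 ⟨⟨e₂ * e₁, n.primeCompl.mul_mem he₂ e₁.2⟩,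
        by rw [← he₂']; ring⟩
    rw [this] at hz
    exact (IsLocalization.map_units (M := n.primeCompl) (Localization.AtPrime n) e).mul_left_eq_zero.1 hz

/-- **Such a ring is integrally closed in its total ring of fractions.** -/
theorem PrincipalMax.exists_algebraMap {S : Type u} [CommRing S] [IsNoetherianRing S] (hS : PrincipalMax S)
    {F : Type u} [CommRing F] [Algebra S F] [IsFractionRing S F] {z : F} (hz : IsIntegral S z) :
    ∃ x : S, algebraMap S F x = z := by
  let J : Ideal S := (Submodule.span S (Set.range (algebraMap S F))).comap (LinearMap.toSpanSingleton S F z)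
  have hJ : ∀ x, x ∈ J ↔ ∃ w, algebraMap S F w = x • z := fun x => by
    have : Submodule.span S (Set.range (algebraMap S F)) = LinearMap.range (Algebra.linearMap S F) := by
      conv_rhs => rw [← Submodule.span_eq (LinearMap.range (Algebra.linearMap S F))]
      rfl
    simp only [J, Submodule.mem_comap, this, LinearMap.mem_range, Algebra.linearMap_apply,
      LinearMap.toSpanSingleton_apply]
  have htop : J = ⊤ := by
    by_contra hne
    obtain ⟨n, hn, hJn⟩ := Ideal.exists_le_maximal J hne
    haveI := hn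
    obtain ⟨hdom, -, hclosed⟩ := hS.localization n
    let T := Localization.AtPrime n
    let L := FractionRing T
    have hunit : ∀ s : nonZeroDivisors S, IsUnit ((algebraMap T L).comp (algebraMap S T) s) := fun s => by
      refine isUnit_iff_ne_zero.2 fun h => ?_
      obtain ⟨e, he⟩ := (IsLocalization.map_eq_zero_iff n.primeCompl T _).1
        ((IsFractionRing.injective T L) (h.trans (map_zero _).symm))
      exact e.2 (((mem_nonZeroDivisors_iff_right.1 s.2) e he) ▸ n.zero_mem)
    let g : F →+* L := IsLocalization.lift (M := nonZeroDivisors S) hunit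
    have hg : ∀ x, g (algebraMap S F x) = algebraMap T L (algebraMap S T x) := IsLocalization.lift_eq hunit
    obtain ⟨p, hp, hpz⟩ := hz
    have hint : IsIntegral T (g z) := ⟨p.map (algebraMap S T), hp.map _, by
      rw [Polynomial.eval₂_map, show (algebraMap T L).comp (algebraMap S T) = g.comp (algebraMap S F) from
        RingHom.ext fun x => (hg x).symm, ← Polynomial.hom_eval₂, hpz, map_zero]⟩
    obtain ⟨t, ht⟩ := IsIntegrallyClosed.isIntegral_iff.1 hint
    obtain ⟨⟨a, e⟩, hae⟩ := IsLocalization.surj n.primeCompl t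
    obtain ⟨⟨b, s⟩, hbs⟩ := IsLocalization.surj (nonZeroDivisors S) (algebraMap S F e * z - algebraMap S F a)
    have hb : algebraMap S T b = 0 := by
      refine IsFractionRing.injective T L ?_
      rw [map_zero, ← hg, ← hbs, map_mul, map_sub, map_mul, hg, hg, ← ht, ← map_mul,
        show algebraMap S T e * t = algebraMap S T a by rw [mul_comm]; exact hae, sub_self, zero_mul]
    obtain ⟨e', he'⟩ := (IsLocalization.map_eq_zero_iff n.primeCompl T _).1 hb
    refine (n.primeCompl.mul_mem e'.2 e.2) (hJn ((hJ _).2 ⟨(e' : S) * a, ?_⟩))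
    have h1 : algebraMap S F e' * (algebraMap S F e * z - algebraMap S F a) * algebraMap S F s = 0 := by
      rw [mul_assoc, hbs, ← map_mul, he', map_zero]
    rw [(IsLocalization.map_units F s).mul_left_eq_zero] at h1
    rw [Algebra.smul_def, map_mul, map_mul]
    linear_combination -h1
  obtain ⟨w, hw⟩ := (hJ 1).1 (htop ▸ Submodule.mem_top)
  exact ⟨w, by rw [hw, one_smul]⟩

/-- **Maximal ideals of an integral closure over a nonzerodivisor are locally principal.** -/
theorem exists_principal {A F : Type u} [CommRing A] [CommRing F] [Algebra A F] (C : Subalgebra A F)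
    (hC : ∀ z : F, IsIntegral A z → z ∈ C) [Module.Finite A C] [IsNoetherianRing A]
    (q : Ideal C) [q.IsPrime] (c : C) (hc : IsUnit (c : F)) (hcq : c ∈ q)
    (hmin : q ∈ (Ideal.span {c}).minimalPrimes) :
    ∃ π ∈ q, ∃ a w : C, w ∉ q ∧ a * π = c * w ∧ ∀ y ∈ q, ∃ e ∉ q, e * y ∈ Ideal.span {π} := by
  classical
  haveI : IsNoetherian A C := isNoetherian_of_isNoetherianRing_of_finite A C
  haveI : IsNoetherianRing C := isNoetherian_of_tower A inferInstance
  have hloc : ∀ y ∈ q, ∃ i, ∃ e ∉ q, e * y ^ i ∈ Ideal.span {c} := by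
    intro y hy
    by_contra h
    push_neg at h
    let M : Submonoid C := q.primeCompl ⊔ Submonoid.powers y
    have hdis : Disjoint (Ideal.span {c} : Set C) M := by
      rw [Set.disjoint_right]
      intro x hx hxc
      obtain ⟨e, he, _, ⟨i, rfl⟩, rfl⟩ := Submonoid.mem_sup.1 hx
      exact h i e he hxc
    obtain ⟨P, hP, hle, hPdis⟩ := Ideal.exists_le_prime_disjoint _ M hdis
    have hPq : P ≤ q := fun x hx => by_contra fun hxq =>
      Set.disjoint_left.1 hPdis hx (Submonoid.mem_sup_left hxq)
    exact Set.disjoint_left.1 hPdis (hmin.2 ⟨hP, hle⟩ hPq hy)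
      (Submonoid.mem_sup_right (Submonoid.mem_powers y))
  -- some power of `q` times an element outside lies in the principal ideal
  have hex : ∃ N, ∃ e ∉ q, ∀ x ∈ q ^ N, e * x ∈ Ideal.span {c} := by
    let J : Ideal C :=
      { carrier := {x | ∃ e ∉ q, e * x ∈ Ideal.span {c}}
        zero_mem' := ⟨1, (Ideal.ne_top_iff_one q).1 (Ideal.IsPrime.ne_top ‹_›), by simp⟩
        add_mem' := fun {x y} hx hy => by
          obtain ⟨e₁, h₁, hx⟩ := hx
          obtain ⟨e₂, h₂, hy⟩ := hy
          exact ⟨e₁ * e₂, fun h => (Ideal.IsPrime.mem_or_mem ‹_› h).elim h₁ h₂, by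
            rw [mul_add]
            exact add_mem (by rw [mul_comm e₁, mul_assoc]; exact Ideal.mul_mem_left _ _ hx)
              (by rw [mul_assoc]; exact Ideal.mul_mem_left _ _ hy)⟩
        smul_mem' := fun r x hx => by
          obtain ⟨e, he, hx⟩ := hx
          exact ⟨e, he, by rw [smul_eq_mul, mul_left_comm]; exact Ideal.mul_mem_left _ _ hx⟩ }
    obtain ⟨N, hN⟩ := Ideal.exists_pow_le_of_le_radical_of_fg (J := J) (I := q)
      (fun y hy => by
        obtain ⟨i, e, he, h⟩ := hloc y hy
        exact ⟨i, e, he, h⟩) (IsNoetherian.noetherian q)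
    obtain ⟨G, hG⟩ := IsNoetherian.noetherian J
    have hGJ : ∀ g ∈ G, ∃ e ∉ q, e * g ∈ Ideal.span {c} := fun g hg =>
      (show g ∈ J from hG ▸ Submodule.subset_span hg)
    choose! e he hey using hGJ
    refine ⟨N, ∏ g ∈ G, e g, fun h => ?_, fun x hx => ?_⟩
    · obtain ⟨y, hy, hyq⟩ := (Ideal.IsPrime.prod_mem_iff (p := q)).1 h
      exact he y hy hyq
    · have hxJ : x ∈ Submodule.span C (G : Set C) := hG.symm ▸ hN hx
      refine Submodule.span_induction (p := fun x _ => (∏ g ∈ G, e g) * x ∈ Ideal.span {c}) (fun g hg => ?_)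
        (by simp) (fun _ _ _ _ h h' => by rw [mul_add]; exact add_mem h h')
        (fun r x _ h => by rw [smul_eq_mul, mul_left_comm]; exact Ideal.mul_mem_left _ _ h) hxJ
      rw [← Finset.mul_prod_erase G e hg, mul_comm (e g), mul_assoc]
      exact Ideal.mul_mem_left _ _ (hey g hg)
  obtain ⟨e, he, hN⟩ := (Nat.find_spec hex)
  obtain ⟨m, hm⟩ : ∃ m, Nat.find hex = m + 1 := by
    refine Nat.exists_eq_add_one.2 (Nat.pos_of_ne_zero fun h0 => he ?_)
    rw [h0] at hN
    have := hN 1 (by simp)
    rw [mul_one] at this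
    exact (hmin.1.2) this
  obtain ⟨v, hv, hvc⟩ : ∃ v ∈ q ^ m, e * v ∉ Ideal.span {c} := by
    by_contra h
    push_neg at h
    exact Nat.find_min hex (by omega) ⟨e, he, h⟩
  have ha : ∀ y ∈ q, ∃ w : C, e * v * y = c * w := fun y hy => by
    have := hN (v * y) (by rw [hm, pow_succ]; exact Ideal.mul_mem_mul hv hy)
    rw [← mul_assoc] at this
    obtain ⟨w, hw⟩ := Ideal.mem_span_singleton'.1 this
    exact ⟨w, by rw [← hw, mul_comm]⟩
  choose! w hw using ha
  by_cases hall : ∀ y ∈ q, w y ∈ q
  · exfalso
    obtain ⟨u, hu⟩ := hc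
    let α : F := ((e * v : C) : F) * ↑u⁻¹
    have hα : ∀ y ∈ q, α * (y : F) = (w y : F) := fun y hy => by
      have h1 := congrArg Subtype.val (hw y hy)
      simp only [Subalgebra.coe_mul, ← hu] at h1
      simp only [α, Subalgebra.coe_mul]
      rw [mul_right_comm, h1, mul_right_comm, Units.mul_inv, one_mul]
    let N : Submodule A F := (q.restrictScalars A).map C.val.toLinearMap
    haveI : Module.Finite A N := Module.Finite.iff_fg.2 ((IsNoetherian.noetherian _).map _)
    have hmaps : ∀ x ∈ N, LinearMap.mulLeft A α x ∈ N := by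
      rintro _ ⟨y, hy, rfl⟩
      exact ⟨w y, hall y hy, (hα y hy).symm⟩
    obtain ⟨p, hp, hp0⟩ := LinearMap.exists_monic_and_aeval_eq_zero A ((LinearMap.mulLeft A α).restrict hmaps)
    have hcN : (c : F) ∈ N := ⟨c, hcq, rfl⟩
    have h1 : ∀ (r : Polynomial A) (x : N),
        (Polynomial.aeval ((LinearMap.mulLeft A α).restrict hmaps) r x : F) = Polynomial.aeval α r * x := by
      intro r
      induction r using Polynomial.induction_on' with
      | add r s hr hs => intro x; simp [hr, hs, add_mul]
      | monomial n b =>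
        intro x
        rw [Polynomial.aeval_monomial, Polynomial.aeval_monomial]
        have : ∀ n : ℕ, ((((LinearMap.mulLeft A α).restrict hmaps) ^ n) x : F) = α ^ n * x := by
          intro n
          induction n with
          | zero => simp
          | succ n ih => rw [pow_succ', Module.End.mul_apply]; simp [ih, pow_succ', mul_assoc]
        simp [Module.algebraMap_end_apply, this, Algebra.smul_def, mul_assoc]
    have h2 : Polynomial.aeval α p = 0 := by
      have := h1 p ⟨c, hcN⟩
      rw [hp0] at this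
      simpa [hu.symm] using this.symm
    have hαC : α ∈ C := hC α ⟨p, hp, h2⟩
    refine hvc (Ideal.mem_span_singleton'.2 ⟨⟨α, hαC⟩, Subtype.ext ?_⟩)
    show α * (c : F) = _
    rw [← hu]
    simp [α, mul_assoc]
  · push_neg at hall
    obtain ⟨π, hπ, hwπ⟩ := hall
    refine ⟨π, hπ, e * v, w π, hwπ, hw π hπ, fun y hy => ⟨w π, hwπ, Ideal.mem_span_singleton'.2 ⟨w y, ?_⟩⟩⟩
    obtain ⟨u, hu⟩ := hc
    refine Subtype.ext (u.isUnit.mul_left_cancel ?_)
    have h1 := congrArg Subtype.val (hw π hπ)
    have h2 := congrArg Subtype.val (hw y hy)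
    simp only [Subalgebra.coe_mul, ← hu] at h1 h2 ⊢
    linear_combination (y : F) * h1 - (π : F) * h2

end Groth.Agent.Delta12
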