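import Mathlib.RingTheory.Flat.Basic
import Mathlib.RingTheory.Unramified.Field
import Mathlib.RingTheory.Etale.Field
import Mathlib.FieldTheory.SeparableClosure
import Mathlib.RingTheory.TensorProduct.Quotient

/-!
Tensor product with a separable algebraic field extension of a field is reduced.
-/

set_option autoImplicit false

universe u

open scoped TensorProduct

namespace Groth.Agent.Delta12

theorem isReduced_tensor_sep (κ K L : Type u) [Field κ] [Field K] [Field L] [Algebra κ K] [Algebra κ L]
    [Algebra.IsSeparable κ L] : IsReduced (K ⊗[κ] L) := by
  refine IsReduced.tensorProduct_of_flat_of_forall_fg fun B hB => ?_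
  have hf : IsField B := Subalgebra.isField_of_algebraic B
  letI := hf.toField
  haveI : Algebra.IsSeparable κ B := by
    exact Algebra.IsSeparable.of_algHom κ L B.val
  haveI : Algebra.FiniteType κ B := B.fg_iff_finiteType.1 hB
  haveI : Algebra.FormallyEtale κ B := Algebra.FormallyEtale.of_isSeparable κ B
  haveI : Algebra.FormallyUnramified K (K ⊗[κ] B) := inferInstance
  haveI : Algebra.EssFiniteType K (K ⊗[κ] B) := inferInstance
  exact Algebra.FormallyUnramified.isReduced_of_field K (K ⊗[κ] B)

end Groth.Agent.Delta12
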