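import Groth.Prelude.Def_Curv2
import Groth.Prelude.Def_Found
import Groth.Agent.Delta12.Local
import Groth.Agent.Delta12.SepReduced
import Groth.Agent.FDesc60.LengthTensor
import Groth.Agent.CAlg1.NagataTheorem
import Mathlib.RingTheory.LocalProperties.Reduced

/-!
The δ-invariant along flat local maps with unramified separable closed fibre.
-/

set_option autoImplicit false
set_option linter.style.haveILetI false
set_option maxHeartbeats 3200000
set_option synthInstance.maxHeartbeats 100000
set_option backward.isDefEq.respectTransparency.types false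

universe u

open scoped TensorProduct
open IsLocalRing

noncomputable section

namespace Groth.Agent.Delta12

/-- an element of the maximal ideal of a reduced one dimensional local ring outside all minimal primes -/
theorem exists_regular (A : Type u) [CommRing A] [IsLocalRing A] [IsNoetherianRing A] [IsReduced A]
    (hdim : ringKrullDim A = 1) :
    ∃ c ∈ maximalIdeal A, c ∈ nonZeroDivisors A ∧
      ∀ s ∈ nonZeroDivisors A, ∃ n, c ^ n ∈ Ideal.span {s} := by
  have hm : maximalIdeal A ∉ minimalPrimes A := fun h => by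
    have h0 : ((maximalIdeal A).height : WithBot ℕ∞) = 1 := by
      rw [IsLocalRing.maximalIdeal_height_eq_ringKrullDim, hdim]
    rw [Ideal.height_eq_zero_iff.2 h] at h0
    simp at h0
  obtain ⟨c, hc, hcP⟩ : ∃ c ∈ maximalIdeal A, ∀ P ∈ minimalPrimes A, c ∉ P := by
    by_contra h
    push_neg at h
    have hsub : (maximalIdeal A : Set A) ⊆ ⋃ P ∈ (minimalPrimes.finite_of_isNoetherianRing A).toFinset, (P : Set A) := by
      intro x hx
      obtain ⟨P, hP, hxP⟩ := h x hx
      exact Set.mem_biUnion ((Set.Finite.mem_toFinset _).2 hP) hxP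
    obtain ⟨P, hP, hle⟩ := (Ideal.subset_union_prime (⊥ : Ideal A) (⊥ : Ideal A)
      (fun P hP _ _ => ((Set.Finite.mem_toFinset _).1 hP).1.1)).1 hsub
    rw [Set.Finite.mem_toFinset] at hP
    haveI := hP.1.1
    exact hm ((maximalIdeal.isMaximal A).eq_of_le hP.1.1.ne_top hle ▸ hP)
  have hreg : c ∈ nonZeroDivisors A := by
    rw [mem_nonZeroDivisors_iff_right]
    intro x hx
    have : x ∈ sInf (minimalPrimes A) := Ideal.mem_sInf.2 fun P hP =>
      (hP.1.1.mem_or_mem (show x * c ∈ P by rw [hx]; exact P.zero_mem)).resolve_right (hcP P hP)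
    rw [show (minimalPrimes A) = (⊥ : Ideal A).minimalPrimes from rfl, Ideal.sInf_minimalPrimes] at this
    exact IsReduced.eq_zero x (mem_nilradical.1 this)
  refine ⟨c, hc, hreg, fun s hs => ?_⟩
  show c ∈ (Ideal.span {s}).radical
  rw [Ideal.radical_eq_sInf, Ideal.mem_sInf]
  rintro P ⟨hsP, hP⟩
  have hle : Ring.KrullDimLE 1 A := Ring.krullDimLE_iff.2 (by rw [hdim]; rfl)
  rcases (Ring.krullDimLE_one_iff.1 hle P hP) with h | h
  · exact absurd hs (Set.disjoint_left.1 (Ideal.disjoint_nonZeroDivisors_of_mem_minimalPrimes h)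
      (hsP (Ideal.mem_span_singleton_self s)))
  · rwa [eq_maximalIdeal h]

/-- **A birational finite extension with locally principal maximal ideals is the normalisation.** -/
theorem exists_equiv_integralClosure (B S : Type u) [CommRing B] [IsNoetherianRing B] [CommRing S] [Algebra B S] [Module.Finite B S]
    (hinj : Function.Injective (algebraMap B S)) (c : B) (hc : c ∈ nonZeroDivisors B)
    (hcS : ∀ x : S, algebraMap B S c * x = 0 → x = 0)
    (hrange : ∀ x : S, ∃ b, algebraMap B S c * x = algebraMap B S b) (hS : PrincipalMax S) :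
    Nonempty (S ≃ₐ[B] integralClosure B (FractionRing B)) := by
  haveI : IsNoetherian B S := isNoetherian_of_isNoetherianRing_of_finite B S
  haveI : IsNoetherianRing S := isNoetherian_of_tower B inferInstance
  choose φ hφ using hrange
  let F := FractionRing B
  let cu : Fˣ := (IsLocalization.map_units F (⟨c, hc⟩ : nonZeroDivisors B)).unit
  have hcu : (cu : F) = algebraMap B F c := rfl
  have hadd : ∀ x y, φ (x + y) = φ x + φ y := fun x y => hinj (by rw [← hφ, map_add, ← hφ, ← hφ, mul_add])
  have hmul : ∀ x y, c * φ (x * y) = φ x * φ y := fun x y => hinj (by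
    rw [map_mul, map_mul, ← hφ, ← hφ, ← hφ]; ring)
  have halg : ∀ b, φ (algebraMap B S b) = c * b := fun b => hinj (by rw [← hφ, map_mul])
  let ψ : S →ₐ[B] F :=
    { toFun := fun x => algebraMap B F (φ x) * ↑cu⁻¹
      map_one' := by
        rw [show φ 1 = c by simpa using halg 1, ← hcu, Units.mul_inv]
      map_mul' := fun x y => by
        refine (cu.isUnit.pow 2).mul_left_cancel ?_
        calc (cu : F) ^ 2 * (algebraMap B F (φ (x * y)) * ↑cu⁻¹)
            = algebraMap B F c * algebraMap B F (φ (x * y)) * (↑cu * ↑cu⁻¹) := by rw [hcu]; ring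
          _ = algebraMap B F (φ x * φ y) := by rw [Units.mul_inv, mul_one, ← map_mul, hmul]
          _ = _ := by
            rw [map_mul]
            calc _ = algebraMap B F (φ x) * algebraMap B F (φ y) * (↑cu * ↑cu⁻¹) * (↑cu * ↑cu⁻¹) := by
                  rw [Units.mul_inv, mul_one, mul_one]
              _ = _ := by ring
      map_zero' := by rw [show φ 0 = 0 by simpa using halg 0]; simp
      map_add' := fun x y => by rw [hadd, map_add, add_mul]
      commutes' := fun b => by
        show algebraMap B F (φ _) * _ = _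
        rw [halg, map_mul, ← hcu, mul_comm (cu : F), mul_assoc, Units.mul_inv, mul_one] }
  have hψinj : Function.Injective ψ := (injective_iff_map_eq_zero ψ).2 fun x hx => by
    refine hcS x ?_
    have : algebraMap B F (φ x) = 0 := by
      have h : algebraMap B F (φ x) * ↑cu⁻¹ = 0 := hx
      rwa [(cu⁻¹).isUnit.mul_left_eq_zero] at h
    rw [hφ, IsFractionRing.injective B F (this.trans (map_zero _).symm), map_zero]
  have hrangeψ : ψ.range = integralClosure B F := by
    refine le_antisymm ?_ fun z hz => ?_
    · rintro _ ⟨x, rfl⟩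
      exact (Algebra.IsIntegral.isIntegral x).map ψ
    have hnz : nonZeroDivisors B ≤ (nonZeroDivisors S).comap (algebraMap B S) := fun s hs => by
      rw [Submonoid.mem_comap, mem_nonZeroDivisors_iff_right]
      intro x hx
      refine hcS x ?_
      have h1 : algebraMap B S (φ x * s) = 0 := by rw [map_mul, ← hφ, mul_assoc, hx, mul_zero]
      rw [hφ, (mem_nonZeroDivisors_iff_right.1 hs) (φ x) (hinj (h1.trans (map_zero _).symm)), map_zero]
    let G : F →+* FractionRing S := IsLocalization.map (FractionRing S) (algebraMap B S) hnz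
    have hG : ∀ b, G (algebraMap B F b) = algebraMap S (FractionRing S) (algebraMap B S b) :=
      IsLocalization.map_eq hnz
    obtain ⟨p, hp, hpz⟩ := hz
    obtain ⟨x, hx⟩ := hS.exists_algebraMap (F := FractionRing S) (z := G z) ⟨p.map (algebraMap B S), hp.map _, by
      rw [Polynomial.eval₂_map, show (algebraMap S (FractionRing S)).comp (algebraMap B S) =
        G.comp (algebraMap B F) from RingHom.ext fun b => (hG b).symm, ← Polynomial.hom_eval₂, hpz, map_zero]⟩
    obtain ⟨⟨a, s⟩, has⟩ := IsLocalization.surj (nonZeroDivisors B) z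
    have hxs : x * algebraMap B S s = algebraMap B S a := IsFractionRing.injective S (FractionRing S) (by
      rw [map_mul, hx, ← hG, ← hG, ← map_mul, has])
    refine ⟨x, (IsLocalization.map_units F s).mul_right_cancel ?_⟩
    show ψ x * _ = _
    rw [has, ← ψ.commutes, ← map_mul, hxs, ψ.commutes]
  exact ⟨(AlgEquiv.ofInjective ψ hψinj).trans (Subalgebra.equivOfEq _ _ hrangeψ)⟩

/-- the δ-invariant read off a birational finite extension with locally principal maximal ideals -/
theorem deltaInv_eq (B S : Type u) [CommRing B] [IsNoetherianRing B] [CommRing S] [Algebra B S] [Module.Finite B S]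
    (hinj : Function.Injective (algebraMap B S)) (c : B) (hc : c ∈ nonZeroDivisors B)
    (hcS : ∀ x : S, algebraMap B S c * x = 0 → x = 0)
    (hrange : ∀ x : S, ∃ b, algebraMap B S c * x = algebraMap B S b) (hS : PrincipalMax S) :
    Curv2.deltaInv B = Module.length B (S ⧸ LinearMap.range (Algebra.linearMap B S)) := by
  obtain ⟨E⟩ := exists_equiv_integralClosure B S hinj c hc hcS hrange hS
  refine (LinearEquiv.length_eq (Submodule.Quotient.equiv _ _ E.toLinearEquiv ?_)).symm
  rw [← LinearMap.range_comp]
  congr 1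
  exact LinearMap.ext fun b => E.commutes b

variable (A : Type u) [CommRing A] [IsLocalRing A] [IsReduced A]
  (B : Type u) [CommRing B] [IsNoetherianRing B] [IsLocalRing B] [Algebra A B] [IsLocalHom (algebraMap A B)]

variable (C : Type u) [CommRing C] [Algebra A C]

omit [IsReduced A] [IsNoetherianRing B] in
theorem isReduced_fibre [Algebra.IsSeparable (ResidueField A) (ResidueField B)] (q : Ideal C) [q.IsMaximal]
    (hqA : q.comap (algebraMap A C) = maximalIdeal A) :
    IsReduced (ResidueField B ⊗[A] (C ⧸ q)) := by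
  let κ := ResidueField A
  letI : Field (C ⧸ q) := Ideal.Quotient.field q
  let iκ : κ →+* C ⧸ q := Ideal.Quotient.lift (maximalIdeal A)
    ((Ideal.Quotient.mk q).comp (algebraMap A C)) fun a ha => by
      rw [RingHom.comp_apply, Ideal.Quotient.eq_zero_iff_mem]
      show a ∈ q.comap (algebraMap A C)
      rwa [hqA]
  letI : Algebra κ (C ⧸ q) := iκ.toAlgebra
  haveI : IsScalarTower A κ (C ⧸ q) := IsScalarTower.of_algebraMap_eq fun a => rfl
  haveI : IsScalarTower A κ (ResidueField B) := IsScalarTower.of_algebraMap_eq fun a => rfl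
  haveI : TensorProduct.CompatibleSMul A κ (C ⧸ q) (ResidueField B) := ⟨fun r m n => by
    obtain ⟨r, rfl⟩ := residue_surjective r
    rw [show residue A r • m = r • m from algebraMap_smul κ r m,
      show residue A r • n = r • n from algebraMap_smul κ r n, TensorProduct.smul_tmul]⟩
  haveI : SMulCommClass κ A (C ⧸ q) := ⟨fun r a x => by
    rw [Algebra.smul_def, Algebra.smul_def, Algebra.smul_def, Algebra.smul_def, mul_left_comm]⟩
  haveI : SMulCommClass κ A (ResidueField B) := ⟨fun r a x => by
    rw [Algebra.smul_def, Algebra.smul_def, Algebra.smul_def, Algebra.smul_def, mul_left_comm]⟩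
  haveI := isReduced_tensor_sep κ (C ⧸ q) (ResidueField B)
  exact isReduced_of_injective ((Algebra.TensorProduct.comm A (ResidueField B) (C ⧸ q)).trans
    (Algebra.TensorProduct.equivOfCompatibleSMul A κ A (C ⧸ q) (ResidueField B)).symm) (AlgEquiv.injective _)

omit [IsReduced A] in
/-- the closed fibre being reduced, a maximal ideal is locally generated by the ideal below it -/
theorem exists_mul_mem_map [Module.Finite A C] [Algebra.IsSeparable (ResidueField A) (ResidueField B)]
    (hm : (maximalIdeal A).map (algebraMap A B) = maximalIdeal B)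
    (q : Ideal C) [q.IsMaximal] (hqA : q.comap (algebraMap A C) = maximalIdeal A)
    (n : Ideal (B ⊗[A] C)) [hn : n.IsMaximal]
    (hq : n.comap (Algebra.TensorProduct.includeRight : C →ₐ[A] B ⊗[A] C) = q) (y : B ⊗[A] C) (hy : y ∈ n) :
    ∃ e ∉ n, e * y ∈ q.map (Algebra.TensorProduct.includeRight : C →ₐ[A] B ⊗[A] C) := by
  haveI : Module.Finite B (B ⊗[A] C) := Module.Finite.base_change A B C
  haveI : Algebra.IsIntegral B (B ⊗[A] C) := Algebra.IsIntegral.of_finite B _
  haveI := isReduced_fibre A B C q hqA
  let S := B ⊗[A] C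
  let ι : C →ₐ[A] S := Algebra.TensorProduct.includeRight
  let Ψ : S →ₐ[A] ResidueField B ⊗[A] (C ⧸ q) :=
    Algebra.TensorProduct.map (IsScalarTower.toAlgHom A B (ResidueField B)) (Ideal.Quotient.mkₐ A q)
  set Q : Ideal S := q.map ι
  have hker : RingHom.ker Ψ = Q := by
    rw [Algebra.TensorProduct.map_ker _ _ residue_surjective Ideal.Quotient.mk_surjective]
    have h2 : RingHom.ker (Ideal.Quotient.mkₐ A q) = q := Ideal.Quotient.mkₐ_ker A q
    rw [h2]
    refine sup_eq_right.2 ?_
    have h3 : RingHom.ker (IsScalarTower.toAlgHom A B (ResidueField B)) = maximalIdeal B := ker_residue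
    rw [h3, Ideal.map_le_iff_le_comap, ← hm, Ideal.map_le_iff_le_comap]
    intro x hx
    show (Algebra.TensorProduct.includeLeft : B →ₐ[A] S) (algebraMap A B x) ∈ Q
    rw [AlgHom.commutes, ← ι.commutes]
    exact Ideal.mem_map_of_mem ι (show x ∈ q.comap (algebraMap A C) by rwa [hqA])
  by_contra h
  push_neg at h
  let M' : Submonoid S := n.primeCompl ⊔ Submonoid.powers y
  have hdis : Disjoint (Q : Set S) M' := by
    rw [Set.disjoint_right]
    intro x hx hxQ
    obtain ⟨e, he, _, ⟨i, rfl⟩, rfl⟩ := Submonoid.mem_sup.1 hx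
    refine h e he ?_
    rw [SetLike.mem_coe, ← hker, RingHom.mem_ker] at hxQ
    show e * y ∈ Q
    rw [← hker, RingHom.mem_ker]
    refine IsReduced.eq_zero _ ⟨i + 1, ?_⟩
    rw [← map_pow, show (e * y) ^ (i + 1) = (e ^ i * y) * (e * y ^ i) by ring, map_mul, hxQ, mul_zero]
  obtain ⟨P, hP, hle, hPdis⟩ := Ideal.exists_le_prime_disjoint _ M' hdis
  haveI := hP
  have hPn : P ≤ n := fun x hx => by_contra fun hxn =>
    Set.disjoint_left.1 hPdis hx (Submonoid.mem_sup_left hxn)
  have hPB : (P.comap (algebraMap B S)) = maximalIdeal B := by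
    refine le_antisymm (le_maximalIdeal (Ideal.IsPrime.ne_top inferInstance)) ?_
    rw [← hm, Ideal.map_le_iff_le_comap]
    intro x hx
    refine hle ?_
    show algebraMap B S (algebraMap A B x) ∈ Q
    rw [← IsScalarTower.algebraMap_apply, ← ι.commutes]
    exact Ideal.mem_map_of_mem ι (show x ∈ q.comap (algebraMap A C) by rwa [hqA])
  have := (Ideal.isMaximal_of_isIntegral_of_isMaximal_comap P (hPB ▸ maximalIdeal.isMaximal B)).eq_of_le
    hn.ne_top hPn
  exact Set.disjoint_left.1 hPdis (this ▸ hy) (Submonoid.mem_sup_right (Submonoid.mem_powers y))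

omit [IsReduced A] [IsNoetherianRing B] in
theorem length_quot_tensor [Module.FaithfullyFlat A B]
    (hm : (maximalIdeal A).map (algebraMap A B) = maximalIdeal B) :
    Module.length B ((B ⊗[A] C) ⧸ LinearMap.range (Algebra.linearMap B (B ⊗[A] C))) =
      Module.length A (C ⧸ LinearMap.range (Algebra.linearMap A C)) := by
  let g : B ⊗[A] C →ₗ[B] B ⊗[A] (C ⧸ LinearMap.range (Algebra.linearMap A C)) :=
    TensorProduct.AlgebraTensorModule.map (LinearMap.id : B →ₗ[B] B) (Submodule.mkQ _)
  have hg : Function.Surjective g :=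
    LinearMap.lTensor_surjective B (Submodule.mkQ_surjective (LinearMap.range (Algebra.linearMap A C)))
  have hkg : LinearMap.ker g = LinearMap.range (Algebra.linearMap B (B ⊗[A] C)) := by
    have hex := lTensor_exact B (LinearMap.exact_subtype_mkQ (LinearMap.range (Algebra.linearMap A C)))
      (Submodule.mkQ_surjective _)
    refine Submodule.ext fun x => ?_
    constructor
    · intro hx
      obtain ⟨t, ht⟩ := (hex x).1 hx
      clear hx
      subst ht
      induction t with
      | zero => simp
      | add u v hu hv => rw [map_add]; exact add_mem hu hv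
      | tmul b z =>
        obtain ⟨a, ha⟩ := z.2
        refine ⟨b * algebraMap A B a, ?_⟩
        show (b * algebraMap A B a) ⊗ₜ[A] (1 : C) = b ⊗ₜ (z : C)
        rw [← ha, Algebra.linearMap_apply, mul_comm b, ← Algebra.smul_def a b, TensorProduct.smul_tmul,
          ← Algebra.algebraMap_eq_smul_one]
    · rintro ⟨b, rfl⟩
      show b ⊗ₜ[A] Submodule.Quotient.mk (1 : C) = 0
      rw [(Submodule.Quotient.mk_eq_zero _).2 (LinearMap.mem_range.2 ⟨1, map_one (algebraMap A C)⟩), TensorProduct.tmul_zero]
  rw [((Submodule.quotEquivOfEq _ _ hkg.symm).trans (g.quotKerEquivOfSurjective hg)).length_eq,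
    FDesc60.length_tensor (A := A) (B := B) B (C ⧸ LinearMap.range (Algebra.linearMap A C))]
  have h1 : Module.length B (B ⧸ ((maximalIdeal A).map (algebraMap A B) • (⊤ : Submodule B B))) = 1 := by
    rw [hm, smul_eq_mul, Ideal.mul_top]
    haveI : IsSimpleModule B (B ⧸ maximalIdeal B) :=
      isSimpleModule_iff_isCoatom.2 (maximalIdeal.isMaximal B).1
    exact Module.length_eq_one B _
  rw [h1, mul_one]

/-- **The δ-invariant is unchanged along flat maps with unramified separable closed fibre.** -/
theorem baseChange_facts (hN : CAlg.IsNagata A) (hdim : ringKrullDim A = 1) [Module.Flat A B]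
    (hm : (maximalIdeal A).map (algebraMap A B) = maximalIdeal B)
    [Algebra.IsSeparable (ResidueField A) (ResidueField B)] :
    Curv2.deltaInv B = Curv2.deltaInv A ∧
      Nonempty (B ⊗[A] integralClosure A (FractionRing A) ≃ₐ[B] integralClosure B (FractionRing B)) := by
  haveI := hN.1
  haveI : Module.FaithfullyFlat A B := Module.FaithfullyFlat.of_flat_of_isLocalHom
  obtain ⟨c, hcm, hc, hpow⟩ := exists_regular A hdim
  let F := FractionRing A
  haveI : Algebra.FiniteType A F := by
    haveI : IsReduced F := isReduced_localizationPreserves (nonZeroDivisors A) F inferInstance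
    refine ⟨⟨{↑(IsLocalization.map_units F (⟨c, hc⟩ : nonZeroDivisors A)).unit⁻¹}, eq_top_iff.2 fun z _ => ?_⟩⟩
    obtain ⟨⟨a, s⟩, hz⟩ := IsLocalization.surj (nonZeroDivisors A) z
    obtain ⟨n, hn⟩ := hpow s s.2
    obtain ⟨r, hr⟩ := Ideal.mem_span_singleton'.1 hn
    set u := (IsLocalization.map_units F (⟨c, hc⟩ : nonZeroDivisors A)).unit
    have : z = algebraMap A F (a * r) * ((u⁻¹ : Fˣ) : F) ^ n := by
      rw [← Units.val_pow_eq_pow_val, inv_pow, Units.eq_mul_inv_iff_mul_eq, Units.val_pow_eq_pow_val]
      show z * algebraMap A F c ^ n = _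
      rw [← map_pow, ← hr, map_mul, map_mul, ← hz]
      ring
    rw [this]
    exact mul_mem (Subalgebra.algebraMap_mem _ _) (pow_mem (Algebra.subset_adjoin (by simp)) n)
  haveI : IsReduced F := isReduced_localizationPreserves (nonZeroDivisors A) F inferInstance
  let C := integralClosure A F
  haveI : Module.Finite A C := CAlg1.Nag.finite_integralClosure_reduced hN
  have hcC : IsUnit ((algebraMap A C c : C) : F) := IsLocalization.map_units F (⟨c, hc⟩ : nonZeroDivisors A)
  -- a power of `c` kills the cokernel
  obtain ⟨M, hM⟩ : ∃ M, ∀ x : C, ∃ b, algebraMap A C c ^ M * x = algebraMap A C b := by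
    have hone : ∀ x : C, ∃ M, ∀ M' ≥ M, ∃ b, algebraMap A C c ^ M' * x = algebraMap A C b := fun x => by
      obtain ⟨⟨a, s⟩, hx⟩ := IsLocalization.surj (nonZeroDivisors A) (x : F)
      obtain ⟨n, hn⟩ := hpow s s.2
      obtain ⟨r, hr⟩ := Ideal.mem_span_singleton'.1 hn
      refine ⟨n, fun M' hM' => ⟨c ^ (M' - n) * (r * a), Subtype.ext ?_⟩⟩
      show algebraMap A F c ^ M' * (x : F) = algebraMap A F _
      rw [← Nat.sub_add_cancel hM', pow_add, map_mul, map_pow, ← map_pow _ c n, ← hr, map_mul, map_mul,
        ← hx, Nat.add_sub_cancel]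
      ring
    choose Mx hMx using hone
    obtain ⟨G, hG⟩ := (Module.Finite.fg_top (R := A) (M := C))
    refine ⟨G.sup Mx, fun x => ?_⟩
    have hxG : x ∈ Submodule.span A (G : Set C) := hG.symm ▸ Submodule.mem_top
    refine Submodule.span_induction (p := fun x _ => ∃ b, algebraMap A C c ^ G.sup Mx * x = algebraMap A C b)
      (fun g hg => hMx g _ (Finset.le_sup hg)) ⟨0, by simp⟩ ?_ ?_ hxG
    · rintro x y - - ⟨b, hb⟩ ⟨b', hb'⟩
      exact ⟨b + b', by rw [mul_add, hb, hb', map_add]⟩
    · rintro r x - ⟨b, hb⟩
      exact ⟨r * b, by rw [Algebra.smul_def, mul_left_comm, hb, map_mul]⟩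
  let S := B ⊗[A] C
  let ι : C →ₐ[A] S := Algebra.TensorProduct.includeRight
  have hinjC : Function.Injective (algebraMap A C) := fun a b h =>
    IsFractionRing.injective A F (congrArg Subtype.val h)
  have hinj : Function.Injective (algebraMap B S) := fun a b h => by
    have h1 := Module.Flat.lTensor_preserves_injective_linearMap (M := B) (Algebra.linearMap A C) hinjC
    refine (TensorProduct.rid A B).symm.injective (h1 ?_)
    show a ⊗ₜ[A] algebraMap A C 1 = b ⊗ₜ[A] algebraMap A C 1
    rw [map_one]
    exact h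
  have hcB : c ^ M ∈ nonZeroDivisors A := pow_mem hc M
  have hnzS : ∀ a ∈ nonZeroDivisors A, ∀ x : S, algebraMap B S (algebraMap A B a) * x = 0 → x = 0 := by
    intro a ha x hx
    have hCinj : Function.Injective (LinearMap.lsmul A C a) := fun u v h => by
      refine Subtype.ext ((IsLocalization.map_units F (⟨a, ha⟩ : nonZeroDivisors A)).mul_left_cancel ?_)
      have := congrArg Subtype.val h
      simpa [Algebra.smul_def] using this
    refine (injective_iff_map_eq_zero _).1 (Module.Flat.lTensor_preserves_injective_linearMap (M := B) _ hCinj) x ?_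
    rw [← hx]
    clear hx
    induction x using TensorProduct.induction_on with
    | zero => simp
    | add u v hu hv => rw [map_add, hu, hv, mul_add]
    | tmul b z =>
      show b ⊗ₜ[A] (a • z) = (algebraMap A B a) ⊗ₜ[A] (1 : C) * b ⊗ₜ[A] z
      rw [Algebra.TensorProduct.tmul_mul_tmul, one_mul, ← Algebra.smul_def a b, TensorProduct.smul_tmul]
  have hcB' : algebraMap A B (c ^ M) ∈ nonZeroDivisors B := by
    rw [mem_nonZeroDivisors_iff_right]
    intro b hb
    refine hinj ?_
    rw [map_zero]
    exact hnzS _ hcB _ (by rw [← map_mul, mul_comm, hb, map_zero])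
  have hrange : ∀ x : S, ∃ b, algebraMap B S (algebraMap A B (c ^ M)) * x = algebraMap B S b := by
    intro x
    induction x using TensorProduct.induction_on with
    | zero => exact ⟨0, by simp⟩
    | add u v hu hv =>
      obtain ⟨b, hb⟩ := hu
      obtain ⟨b', hb'⟩ := hv
      exact ⟨b + b', by rw [mul_add, hb, hb', map_add]⟩
    | tmul b z =>
      obtain ⟨a, ha⟩ := hM z
      refine ⟨b * algebraMap A B a, ?_⟩
      show (algebraMap A B (c ^ M)) ⊗ₜ[A] (1 : C) * b ⊗ₜ[A] z = (b * algebraMap A B a) ⊗ₜ[A] (1 : C)
      rw [Algebra.TensorProduct.tmul_mul_tmul, one_mul, ← Algebra.smul_def (c ^ M) b, mul_comm b,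
        ← Algebra.smul_def a b, TensorProduct.smul_tmul, TensorProduct.smul_tmul, ← Algebra.algebraMap_eq_smul_one,
        Algebra.smul_def, map_pow, ha]
  have hS : PrincipalMax S := by
    intro n hn
    haveI : Algebra.IsIntegral B S := Algebra.IsIntegral.of_finite B S
    haveI : Algebra.IsIntegral A C := Algebra.IsIntegral.of_finite A C
    have hnB : n.comap (algebraMap B S) = maximalIdeal B :=
      eq_maximalIdeal (Ideal.isMaximal_comap_of_isIntegral_of_isMaximal n)
    let q : Ideal C := n.comap ι
    haveI : q.IsPrime := Ideal.IsPrime.comap ι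
    have hqA : q.comap (algebraMap A C) = maximalIdeal A := by
      show (n.comap (ι : C →+* S)).comap (algebraMap A C) = _
      rw [Ideal.comap_comap, show (ι : C →+* S).comp (algebraMap A C) =
        (algebraMap B S).comp (algebraMap A B) from RingHom.ext fun a => by
          simp [ι.commutes, ← IsScalarTower.algebraMap_apply], ← Ideal.comap_comap, hnB]
      exact ((IsLocalRing.local_hom_TFAE (algebraMap A B)).out 0 4).1 ‹_›
    haveI : q.IsMaximal := Ideal.isMaximal_of_isIntegral_of_isMaximal_comap q (hqA ▸ maximalIdeal.isMaximal A)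
    have hcq : algebraMap A C c ∈ q := by
      show c ∈ q.comap (algebraMap A C)
      rwa [hqA]
    have hmin : q ∈ (Ideal.span {algebraMap A C c}).minimalPrimes := by
      refine ⟨⟨‹_›, (Ideal.span_singleton_le_iff_mem _).2 hcq⟩, fun P ⟨hP, hcP⟩ hPq => ?_⟩
      haveI := hP
      have hPA : (P.comap (algebraMap A C)).IsMaximal := by
        have hcmem : c ∈ P.comap (algebraMap A C) := hcP (Ideal.mem_span_singleton_self _)
        have hle : Ring.KrullDimLE 1 A := Ring.krullDimLE_iff.2 (by rw [hdim]; rfl)
        rcases Ring.krullDimLE_one_iff.1 hle (P.comap (algebraMap A C)) inferInstance with h | h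
        · exact absurd hc (Set.disjoint_left.1 (Ideal.disjoint_nonZeroDivisors_of_mem_minimalPrimes h) hcmem)
        · exact h
      exact ((Ideal.isMaximal_of_isIntegral_of_isMaximal_comap P hPA).eq_of_le (Ideal.IsMaximal.ne_top (I := q) inferInstance) hPq).ge
    obtain ⟨π, hπ, a, w, hw, haw, hgen⟩ := exists_principal C (fun z hz => hz) q _ hcC hcq hmin
    refine ⟨ι π, hπ, fun y hy => ?_, fun z hz => ?_⟩
    · obtain ⟨e, he, hey⟩ := exists_mul_mem_map A B C hm q hqA n rfl y hy
      let J : Ideal S :=
        { carrier := {x | ∃ e ∉ n, e * x ∈ Ideal.span {ι π}}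
          zero_mem' := ⟨1, (Ideal.ne_top_iff_one n).1 hn.ne_top, by simp⟩
          add_mem' := fun {x y} hx hy => by
            obtain ⟨e₁, h₁, hx⟩ := hx
            obtain ⟨e₂, h₂, hy⟩ := hy
            exact ⟨e₁ * e₂, fun h => (hn.isPrime.mem_or_mem h).elim h₁ h₂, by
              rw [mul_add]
              exact add_mem (by rw [mul_comm e₁, mul_assoc]; exact Ideal.mul_mem_left _ _ hx)
                (by rw [mul_assoc]; exact Ideal.mul_mem_left _ _ hy)⟩
          smul_mem' := fun r x hx => by
            obtain ⟨e, he, hx⟩ := hx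
            exact ⟨e, he, by rw [smul_eq_mul, mul_left_comm]; exact Ideal.mul_mem_left _ _ hx⟩ }
      have hQJ : q.map ι ≤ J := Ideal.map_le_iff_le_comap.2 fun x hx => by
        obtain ⟨e, he, hex⟩ := hgen x hx
        refine ⟨ι e, he, ?_⟩
        rw [← map_mul, ← Set.image_singleton, ← Ideal.map_span]
        exact Ideal.mem_map_of_mem ι hex
      obtain ⟨e', he', he''⟩ := hQJ hey
      exact ⟨e' * e, fun h => (hn.isPrime.mem_or_mem h).elim he' he, by rwa [mul_assoc]⟩
    · refine ⟨ι w, hw, hnzS c hc _ ?_⟩
      have : algebraMap B S (algebraMap A B c) = ι (algebraMap A C c) := by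
        rw [ι.commutes, ← IsScalarTower.algebraMap_apply]
      rw [this, ← mul_assoc, ← map_mul, ← haw, map_mul, mul_assoc, hz, mul_zero]
  haveI : Module.Finite B S := Module.Finite.base_change A B C
  refine ⟨?_, exists_equiv_integralClosure B S hinj _ hcB' (hnzS _ hcB) hrange hS⟩
  rw [deltaInv_eq B S hinj _ hcB' (hnzS _ hcB) hrange hS]
  exact length_quot_tensor A B C hm

theorem deltaInv_baseChange (hN : CAlg.IsNagata A) (hdim : ringKrullDim A = 1) [Module.Flat A B]
    (hm : (maximalIdeal A).map (algebraMap A B) = maximalIdeal B)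
    [Algebra.IsSeparable (ResidueField A) (ResidueField B)] :
    Curv2.deltaInv B = Curv2.deltaInv A :=
  (baseChange_facts A B hN hdim hm).1

end Groth.Agent.Delta12
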