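import Groth.Agent.Delta12.Expand
import Groth.Agent.CAlg1.NagataUnram

/-!
Branches and δ-invariant of a local ring whose completion is a multicross ring.
-/

set_option autoImplicit false
set_option linter.style.haveILetI false
set_option maxHeartbeats 1600000
set_option synthInstance.maxHeartbeats 100000
set_option backward.isDefEq.respectTransparency.types false

universe u

open IsLocalRing
open scoped TensorProduct

noncomputable section

namespace Groth.Agent.Delta12

/-- the maximal ideals of a product of power series rings -/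
theorem card_maximal_pi (k : Type u) [Field k] (n : ℕ) :
    ENat.card (MaximalSpectrum (Fin n → PowerSeries k)) = n := by
  classical
  let ρ : Fin n → ((Fin n → PowerSeries k) →+* k) := fun i =>
    PowerSeries.constantCoeff.comp (Pi.evalRingHom (fun _ => PowerSeries k) i)
  have hρ : ∀ i, Function.Surjective (ρ i) := fun i c => ⟨fun _ => PowerSeries.C c, by simp [ρ]⟩
  let e : Fin n → MaximalSpectrum (Fin n → PowerSeries k) := fun i =>
    ⟨RingHom.ker (ρ i), RingHom.ker_isMaximal_of_surjective _ (hρ i)⟩
  have he : Function.Bijective e := by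
    refine ⟨fun i j h => ?_, fun M => ?_⟩
    · by_contra hij
      have hmem : Pi.single i 1 ∈ (e j).asIdeal := by simp [e, ρ, Ne.symm hij]
      rw [← h] at hmem
      simp [e, ρ] at hmem
    · obtain ⟨i, hi⟩ : ∃ i, Pi.single i (1 : PowerSeries k) ∉ M.asIdeal := by
        by_contra h
        push Not at h
        refine M.isMaximal.ne_top ((Ideal.eq_top_iff_one _).2 ?_)
        have h1 : (1 : Fin n → PowerSeries k) = ∑ i, Pi.single i 1 := (Finset.univ_sum_single 1).symm
        rw [h1]
        exact Ideal.sum_mem _ fun i _ => h i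
      refine ⟨i, MaximalSpectrum.ext ((M.isMaximal.eq_of_le (RingHom.ker_isMaximal_of_surjective _ (hρ i)).ne_top
        fun x hx => ?_).symm)⟩
      by_contra hxi
      have hu : IsUnit (x i) := PowerSeries.isUnit_iff_constantCoeff.2 (isUnit_iff_ne_zero.2 fun h => hxi h)
      obtain ⟨u, hu⟩ := hu
      refine hi ?_
      have : Pi.single i (1 : PowerSeries k) = x * Pi.single i (↑u⁻¹ : PowerSeries k) := by
        funext l
        rcases eq_or_ne l i with rfl | hl
        · simp [← hu]
        · simp [hl]
      rw [this]
      exact Ideal.mul_mem_right _ _ hx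
  rw [← ENat.card_congr (Equiv.ofBijective e he), ENat.card_eq_coe_fintype_card, Fintype.card_fin]

/-- maximal ideals along a flat local map without residue extension -/
theorem card_maximal_baseChange {A B C : Type u} [CommRing A] [IsLocalRing A] [CommRing B] [IsLocalRing B]
    [Algebra A B] [IsLocalHom (algebraMap A B)] [Module.Flat A B] [CommRing C] [Algebra A C] [Module.Finite A C]
    (hm : (maximalIdeal A).map (algebraMap A B) = maximalIdeal B)
    (hres : ∀ b : B, ∃ a : A, b - algebraMap A B a ∈ maximalIdeal B) :
    ENat.card (MaximalSpectrum (B ⊗[A] C)) = ENat.card (MaximalSpectrum C) := by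
  haveI : Module.FaithfullyFlat A B := Module.FaithfullyFlat.of_flat_of_isLocalHom
  haveI : Module.Finite B (B ⊗[A] C) := Module.Finite.base_change A B C
  haveI : Algebra.IsIntegral B (B ⊗[A] C) := Algebra.IsIntegral.of_finite B _
  haveI : Algebra.IsIntegral A C := Algebra.IsIntegral.of_finite A C
  let S := B ⊗[A] C
  let ι : C →ₐ[A] S := Algebra.TensorProduct.includeRight
  have hcov : ∀ x : S, ∃ z : C, x - ι z ∈ (maximalIdeal B).map (algebraMap B S) := by
    intro x
    induction x using TensorProduct.induction_on with
    | zero => exact ⟨0, by simp⟩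
    | add u v hu hv =>
      obtain ⟨z, hz⟩ := hu
      obtain ⟨w, hw⟩ := hv
      exact ⟨z + w, by rw [map_add, add_sub_add_comm]; exact add_mem hz hw⟩
    | tmul b z =>
      obtain ⟨a, ha⟩ := hres b
      refine ⟨a • z, ?_⟩
      have : b ⊗ₜ[A] z - ι (a • z) = algebraMap B S (b - algebraMap A B a) * ι z := by
        show b ⊗ₜ[A] z - (1 : B) ⊗ₜ[A] (a • z) = ((b - algebraMap A B a) ⊗ₜ[A] (1 : C)) * (1 : B) ⊗ₜ[A] z
        rw [Algebra.TensorProduct.tmul_mul_tmul, mul_one, one_mul, TensorProduct.sub_tmul, TensorProduct.tmul_smul,
          Algebra.algebraMap_eq_smul_one, TensorProduct.smul_tmul']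
      rw [this]
      exact Ideal.mul_mem_right _ _ (Ideal.mem_map_of_mem _ ha)
  have hnB : ∀ M : MaximalSpectrum S, (maximalIdeal B).map (algebraMap B S) ≤ M.asIdeal := fun M => by
    rw [Ideal.map_le_iff_le_comap,
      eq_maximalIdeal (Ideal.isMaximal_comap_of_isIntegral_of_isMaximal (R := B) M.asIdeal)]
  have hmax : ∀ M : MaximalSpectrum S, (M.asIdeal.comap ι).IsMaximal := fun M => by
    refine Ideal.isMaximal_of_isIntegral_of_isMaximal_comap (R := A) _ ?_
    have : (M.asIdeal.comap ι).comap (algebraMap A C) = maximalIdeal A := by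
      refine le_antisymm (le_maximalIdeal (Ideal.IsPrime.ne_top inferInstance)) fun a ha => ?_
      show ι (algebraMap A C a) ∈ M.asIdeal
      rw [ι.commutes, IsScalarTower.algebraMap_apply A B S]
      exact hnB M (Ideal.mem_map_of_mem _ (hm ▸ Ideal.mem_map_of_mem _ ha))
    rw [this]
    infer_instance
  let g : MaximalSpectrum S → MaximalSpectrum C := fun M => ⟨M.asIdeal.comap ι, hmax M⟩
  have hg : Function.Bijective g := by
    refine ⟨fun M M' h => MaximalSpectrum.ext (M.isMaximal.eq_of_le M'.isMaximal.ne_top fun x hx => ?_), fun q => ?_⟩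
    · obtain ⟨z, hz⟩ := hcov x
      have h1 : ι z ∈ M.asIdeal := by simpa using sub_mem hx (hnB M hz)
      have h2 : z ∈ (g M).asIdeal := h1
      rw [h] at h2
      simpa using add_mem (hnB M' hz) (show ι z ∈ M'.asIdeal from h2)
    · have hne : q.asIdeal.map ι ≠ ⊤ := by
        intro h
        haveI : Nontrivial (B ⊗[A] (C ⧸ q.asIdeal)) := by
          haveI : Nontrivial (C ⧸ q.asIdeal) := Ideal.Quotient.nontrivial_iff.2 q.isMaximal.ne_top
          infer_instance
        let Ψ : S →ₐ[A] B ⊗[A] (C ⧸ q.asIdeal) := Algebra.TensorProduct.map (AlgHom.id A B) (Ideal.Quotient.mkₐ A _)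
        have : q.asIdeal.map ι ≤ RingHom.ker Ψ := Ideal.map_le_iff_le_comap.2 fun z hz => by
          show Ψ ((1 : B) ⊗ₜ[A] z) = 0
          show (1 : B) ⊗ₜ[A] (Ideal.Quotient.mk q.asIdeal z) = 0
          rw [Ideal.Quotient.eq_zero_iff_mem.2 hz, TensorProduct.tmul_zero]
        rw [h, top_le_iff] at this
        exact RingHom.ker_ne_top _ this
      obtain ⟨M, hM, hle⟩ := Ideal.exists_le_maximal _ hne
      refine ⟨⟨M, hM⟩, MaximalSpectrum.ext ((q.isMaximal.eq_of_le (Ideal.IsMaximal.ne_top (hmax ⟨M, hM⟩))
        (Ideal.map_le_iff_le_comap.1 hle)).symm)⟩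
  exact ENat.card_congr (Equiv.ofBijective g hg)

/-- **A local ring with multicross completion.** -/
theorem multicross_invariants (A : Type u) [CommRing A] [IsLocalRing A] [IsReduced A] (k : Type u) [Field k]
    [Algebra k A] (hN : CAlg.IsNagata A) (hdim : ringKrullDim A = 1)
    (hres : Function.Bijective (algebraMap k (ResidueField A))) (n : ℕ)
    (φ : AdicCompletion (maximalIdeal A) A →+* (Fin n → PowerSeries k)) (hinj : Function.Injective φ)
    (hk : ∀ t : k, φ (algebraMap A _ (algebraMap k A t)) = fun _ => PowerSeries.C t)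
    (hrange : Set.range φ = {f | ∀ i j, PowerSeries.constantCoeff (f i) = PowerSeries.constantCoeff (f j)}) :
    Brnch.numBranches A = n ∧ Curv2.deltaInv A + 1 = n := by
  classical
  haveI := hN.1
  obtain ⟨hfin, hC, -⟩ := normalization_facts A hN hdim
  haveI := hfin
  let B := AdicCompletion (maximalIdeal A) A
  haveI : IsNoetherianRing B := Cohen12.isNoetherianRing_completion A
  haveI : Module.Flat A B := AdicCompletion.flat_of_isNoetherian _
  haveI : IsLocalHom (algebraMap A B) :=
    ((IsLocalRing.local_hom_TFAE _).out 2 0 rfl rfl).mp AdicCompletion.maximalIdeal_eq_map.symm.le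
  have hresB : ∀ b : B, ∃ a : A, b - algebraMap A B a ∈ maximalIdeal B := fun b => by
    simpa using Cohen12.exists_sub_mem_pow A 1 b
  haveI : Algebra.IsSeparable (ResidueField A) (ResidueField B) := ⟨fun x => by
    obtain ⟨y, rfl⟩ := residue_surjective x
    obtain ⟨a, ha⟩ := hresB y
    rw [← residue_eq_zero_iff, map_sub, sub_eq_zero] at ha
    rw [ha]
    exact isSeparable_algebraMap (residue A a)⟩
  obtain ⟨hδ, ⟨E⟩⟩ := baseChange_facts A B hN hdim AdicCompletion.maximalIdeal_eq_map.symm
  obtain ⟨m, rfl⟩ : ∃ m, n = m + 1 := Nat.exists_eq_succ_of_ne_zero fun h0 => by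
    subst h0
    exact zero_ne_one (α := B) (hinj (Subsingleton.elim _ _))
  letI : Algebra B (Fin (m + 1) → PowerSeries k) := φ.toAlgebra
  have halg : ∀ b : B, algebraMap B (Fin (m + 1) → PowerSeries k) b = φ b := fun b => rfl
  have hrg : ∀ f : (Fin (m + 1) → PowerSeries k), (∀ i, PowerSeries.constantCoeff (f i) = PowerSeries.constantCoeff (f 0)) →
      ∃ b, φ b = f := fun f hf => by
    rw [← Set.mem_range, hrange]
    exact fun i j => (hf i).trans (hf j).symm
  have hcc : ∀ b i, PowerSeries.constantCoeff (φ b i) = PowerSeries.constantCoeff (φ b 0) := fun b i => by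
    have h : φ b ∈ Set.range φ := ⟨b, rfl⟩
    rw [hrange] at h
    exact h i 0
  haveI : Module.Finite B (Fin (m + 1) → PowerSeries k) := by
    refine ⟨⟨insert 1 (Finset.univ.image fun i => Pi.single i 1), eq_top_iff.2 fun f _ => ?_⟩⟩
    obtain ⟨b, hb⟩ := hrg (f - fun i => PowerSeries.C (PowerSeries.constantCoeff (f i))) fun i => by simp
    have hsplit : f = b • (1 : (Fin (m + 1) → PowerSeries k)) + ∑ i, algebraMap A B (algebraMap k A (PowerSeries.constantCoeff (f i))) •
        (Pi.single i 1 : (Fin (m + 1) → PowerSeries k)) := by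
      funext l
      simp [Algebra.smul_def, halg, hb, hk, Finset.sum_apply, Pi.single_apply]
      show f l = φ b l + φ (algebraMap A B (algebraMap k A (PowerSeries.constantCoeff (f l)))) l
      rw [hb, hk]
      simp
    rw [hsplit]
    exact add_mem (Submodule.smul_mem _ _ (Submodule.subset_span (by simp)))
      (Submodule.sum_mem _ fun i _ => Submodule.smul_mem _ _ (Submodule.subset_span (by simp)))
  obtain ⟨c, hc⟩ := hrg (fun _ => PowerSeries.X) fun i => rfl
  have hcS : ∀ x : (Fin (m + 1) → PowerSeries k), algebraMap B (Fin (m + 1) → PowerSeries k) c * x = 0 → x = 0 := fun x hx => funext fun i => by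
    have h := congrFun hx i
    rw [Pi.mul_apply, halg, hc] at h
    exact (mul_eq_zero.1 h).resolve_left PowerSeries.X_ne_zero
  have hcB : c ∈ nonZeroDivisors B := mem_nonZeroDivisors_iff_right.2 fun x hx => hinj (by
    rw [map_zero]
    exact hcS _ (by rw [halg, ← map_mul, mul_comm, hx, map_zero]))
  have hrangeP : ∀ x : (Fin (m + 1) → PowerSeries k), ∃ b, algebraMap B (Fin (m + 1) → PowerSeries k) c * x = algebraMap B (Fin (m + 1) → PowerSeries k) b := fun x => by
    obtain ⟨b, hb⟩ := hrg (algebraMap B (Fin (m + 1) → PowerSeries k) c * x) fun i => by simp [halg, hc]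
    exact ⟨b, hb.symm⟩
  have hP : PrincipalMax (Fin (m + 1) → PowerSeries k) := by
    intro M hM
    refine ⟨fun _ => PowerSeries.X, ?_, fun y hy => ?_, fun z hz => ?_⟩
    · by_contra hX
      obtain ⟨i, hi⟩ : ∃ i, Pi.single i (1 : PowerSeries k) ∉ M := by
        by_contra h
        push Not at h
        exact hM.ne_top ((Ideal.eq_top_iff_one _).2 ((Finset.univ_sum_single (1 : (Fin (m + 1) → PowerSeries k))) ▸ Ideal.sum_mem _ fun i _ => h i))
      obtain ⟨y, hy, z, hz, hyz⟩ := Submodule.mem_sup.1 ((Ideal.eq_top_iff_one _).1
        (hM.1.2 (M ⊔ Ideal.span {fun _ => PowerSeries.X}) (left_lt_sup.2 fun hle => hX (hle (Ideal.mem_span_singleton_self _)))))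
      obtain ⟨w, rfl⟩ := Ideal.mem_span_singleton'.1 hz
      have hu : IsUnit (y i) := by
        rw [PowerSeries.isUnit_iff_constantCoeff]
        have h := congrArg PowerSeries.constantCoeff (congrFun hyz i)
        simp at h
        rw [h]
        exact isUnit_one
      obtain ⟨u, hu⟩ := hu
      refine hi ?_
      have : Pi.single i (1 : PowerSeries k) = y * Pi.single i (↑u⁻¹ : PowerSeries k) := by
        funext l
        rcases eq_or_ne l i with rfl | hl
        · simp [← hu]
        · simp [hl]
      rw [this]
      exact Ideal.mul_mem_right _ _ hy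
    · obtain ⟨i, hi⟩ : ∃ i, Pi.single i (1 : PowerSeries k) ∉ M := by
        by_contra h
        push Not at h
        exact hM.ne_top ((Ideal.eq_top_iff_one _).2 ((Finset.univ_sum_single (1 : (Fin (m + 1) → PowerSeries k))) ▸ Ideal.sum_mem _ fun i _ => h i))
      refine ⟨Pi.single i 1, hi, ?_⟩
      obtain ⟨w, hw⟩ : PowerSeries.X ∣ y i := by
        rw [PowerSeries.X_dvd_iff]
        by_contra h
        have hu : IsUnit (y i) := PowerSeries.isUnit_iff_constantCoeff.2 (isUnit_iff_ne_zero.2 h)
        obtain ⟨u, hu⟩ := hu
        refine hi ?_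
        have : Pi.single i (1 : PowerSeries k) = y * Pi.single i (↑u⁻¹ : PowerSeries k) := by
          funext l
          rcases eq_or_ne l i with rfl | hl
          · simp [← hu]
          · simp [hl]
        rw [this]
        exact Ideal.mul_mem_right _ _ hy
      refine Ideal.mem_span_singleton'.2 ⟨Pi.single i w, funext fun l => ?_⟩
      rcases eq_or_ne l i with rfl | hl
      · simp [hw, mul_comm]
      · simp [hl]
    · exact ⟨1, (Ideal.ne_top_iff_one M).1 hM.ne_top, funext fun i => by
        have h := congrFun hz i
        simp only [Pi.mul_apply, Pi.zero_apply] at h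
        simpa using (mul_eq_zero.1 h).resolve_left PowerSeries.X_ne_zero⟩
  obtain ⟨E'⟩ := exists_equiv_integralClosure B (Fin (m + 1) → PowerSeries k) (fun a b h => hinj h) c hcB hcS hrangeP hP
  refine ⟨?_, ?_⟩
  · rw [VarNorm.numBranches_eq A (FractionRing A) (minimalPrimes.finite_of_isNoetherianRing A),
      ← card_maximal_baseChange (B := B) AdicCompletion.maximalIdeal_eq_map.symm hresB,
      ← card_maximal_pi k (m + 1)]
    exact ENat.card_congr (VarNorm.maximalSpectrumEquiv (E.trans E'.symm).toRingEquiv).symm
  · rw [← hδ, deltaInv_eq B (Fin (m + 1) → PowerSeries k) (fun a b h => hinj h) c hcB hcS hrangeP hP]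
    let g : (Fin (m + 1) → PowerSeries k) →ₗ[B] (Fin m → ResidueField B) :=
      { toFun := fun f i => residue B (algebraMap A B (algebraMap k A
          (PowerSeries.constantCoeff (f i.succ) - PowerSeries.constantCoeff (f 0))))
        map_add' := fun f f' => funext fun i => by
          simp only [Pi.add_apply, map_add, map_sub]; ring
        map_smul' := fun b f => funext fun i => by
          obtain ⟨a, ha⟩ := hresB b
          obtain ⟨t, ht⟩ := hres.2 (residue A a)
          have hb : b - algebraMap A B (algebraMap k A t) ∈ maximalIdeal B := by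
            have h1 : a - algebraMap k A t ∈ maximalIdeal A := by
              rw [← residue_eq_zero_iff, map_sub, ← ht]
              exact sub_self _
            have h2 : algebraMap A B (a - algebraMap k A t) ∈ maximalIdeal B :=
              AdicCompletion.maximalIdeal_eq_map (R := A) ▸ Ideal.mem_map_of_mem _ h1
            rw [map_sub] at h2
            simpa using add_mem ha h2
          have hbc : ∀ l, PowerSeries.constantCoeff (φ b l) = t := fun l => by
            have hnot : ∀ l, PowerSeries.constantCoeff (φ (b - algebraMap A B (algebraMap k A t)) l) = 0 := fun l => by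
              let ρ : B →+* k := PowerSeries.constantCoeff.comp ((Pi.evalRingHom (fun _ : Fin (m + 1) => PowerSeries k) l).comp φ)
              have hρ : Function.Surjective ρ := fun c => ⟨algebraMap A B (algebraMap k A c), by simp [ρ, hk, B]⟩
              have hmem : b - algebraMap A B (algebraMap k A t) ∈ RingHom.ker ρ := by
                rw [eq_maximalIdeal (RingHom.ker_isMaximal_of_surjective ρ hρ)]; exact hb
              exact hmem
            have := hnot l
            rw [map_sub, hk, Pi.sub_apply, map_sub, PowerSeries.constantCoeff_C, sub_eq_zero] at this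
            exact this
          show residue B _ = b • residue B _
          rw [Algebra.smul_def, Pi.mul_apply, Pi.mul_apply, map_mul, map_mul, halg, hbc, hbc, ← mul_sub, map_mul, map_mul,
            map_mul, Algebra.smul_def, ResidueField.algebraMap_eq]
          congr 1
          rw [eq_comm, ← sub_eq_zero, ← map_sub, residue_eq_zero_iff]
          exact hb }
    have hg : Function.Surjective g := fun v => by
      choose y hy using fun i => residue_surjective (v i)
      choose a ha using fun i => hresB (y i)
      choose t ht using fun i => hres.2 (residue A (a i))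
      refine ⟨Fin.cons 0 (fun i => PowerSeries.C (t i)), funext fun i => ?_⟩
      show residue B _ = v i
      rw [Fin.cons_succ, Fin.cons_zero, PowerSeries.constantCoeff_C, map_zero, sub_zero, ← hy, eq_comm,
        ← sub_eq_zero, ← map_sub, residue_eq_zero_iff]
      have h1 : a i - algebraMap k A (t i) ∈ maximalIdeal A := by
        rw [← residue_eq_zero_iff, map_sub, ← ht]
        exact sub_self _
      have h2 : algebraMap A B (a i - algebraMap k A (t i)) ∈ maximalIdeal B :=
        AdicCompletion.maximalIdeal_eq_map (R := A) ▸ Ideal.mem_map_of_mem _ h1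
      rw [map_sub] at h2
      simpa using add_mem (ha i) h2
    have hker : LinearMap.ker g = LinearMap.range (Algebra.linearMap B (Fin (m + 1) → PowerSeries k)) := by
      refine Submodule.ext fun f => ⟨fun hf => ?_, ?_⟩
      · obtain ⟨b, hb⟩ := hrg f fun i => by
          induction i using Fin.cases with
          | zero => rfl
          | succ i =>
            have h := congrFun (LinearMap.mem_ker.1 hf) i
            by_contra hne
            have hu : IsUnit (algebraMap A B (algebraMap k A
                (PowerSeries.constantCoeff (f i.succ) - PowerSeries.constantCoeff (f 0)))) :=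
              ((IsUnit.mk0 _ (sub_ne_zero.2 hne)).map (algebraMap k A)).map (algebraMap A B)
            exact (maximalIdeal.isMaximal B).ne_top
              (Ideal.eq_top_of_isUnit_mem _ ((residue_eq_zero_iff _).1 h) hu)
        exact ⟨b, hb⟩
      · rintro ⟨b, rfl⟩
        refine funext fun i => ?_
        show residue B _ = 0
        simp [halg, hcc b i.succ]
    rw [((Submodule.quotEquivOfEq _ _ hker.symm).trans (g.quotKerEquivOfSurjective hg)).length_eq,
      Module.length_pi_of_fintype]
    haveI : IsSimpleModule B (ResidueField B) := isSimpleModule_iff_isCoatom.2 (maximalIdeal.isMaximal B).1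
    simp [Module.length_eq_one B (ResidueField B)]

end Groth.Agent.Delta12
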